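import Cfsg.Agent.H321.Ker.AlgY
import Cfsg.Agent.S5636
import Cfsg.Agent.S5640
import Cfsg.Agent.S5643
import Cfsg.Agent.S5658
import Cfsg.Agent.S5661
import Cfsg.Agent.S5669
import Cfsg.Agent.S5774
import Cfsg.Agent.S5777
import Cfsg.Agent.S5792
import Cfsg.Agent.S5795
import Cfsg.Agent.S5807
import Cfsg.Agent.S5810
import Cfsg.Agent.S5852
import Cfsg.Agent.S5855
import Cfsg.Agent.H918.UBase
import Cfsg.Agent.H225.Mono.End_m3
import Cfsg.Agent.H46.Gen.PairW
import Cfsg.Agent.H508.Dens.Main_m3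
import Cfsg.Agent.FastGrp
import Cfsg.Agent.Prune
set_option linter.all false

section
prune_inst 0x7ffcfcfbaffcaddfffff7e7ffedfdffdf9b97fffe6ddf9eb7fe061ef2bdf6b808be5fb8fefe000fe1ec2e2b410f87b53f97eefffea6bdc7ffffd5ff45ffbff9fedf7bd08519688340fbc0ff683f0778e7f3fffffffffffffffffffffffffffbeffffffffffff

-- part: H321/Ker/Facts
section
prune_inst 0x301045003522000000000012000020246800009020210801e9a008420900e54180420100be90120001c0b2a05008402000000059400000000a00320040060120800302041040a104260007808084000000000000000000000000000000000000000000000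
set_option linter.all false
open scoped Cfsg.Agent.FastGrp

/-!
# S2187, kernel row: the maximality facts from the proved statements
-/

set_option autoImplicit false
set_option linter.unusedSectionVars false

universe u

namespace Cfsg.Agent.H321.Ker

open Cfsg Cfsg.Geo
open scoped MatrixGroups Matrix

section Arith

theorem min_field {F : Type*} [Field F] [Fintype F] {z r e : ℕ} (hz : z.Prime) (hne : z ≠ r)
    (h : IsMinimalFieldFor z r e F) : 0 < e ∧ e ∣ z - 1 ∧ orderOf (r : ZMod z) = e := by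
  obtain ⟨hr, hchar, hcard, hdvd, hmin⟩ := h
  have : Fact z.Prime := ⟨hz⟩
  have : Fact r.Prime := ⟨hr⟩
  have he : 0 < e := by
    rcases Nat.eq_zero_or_pos e with h | h
    · subst h
      have := Fintype.one_lt_card (α := F)
      rw [hcard, pow_zero] at this
      omega
    · exact h
  have hr0 : (r : ZMod z) ≠ 0 := by
    rw [Ne, ZMod.natCast_eq_zero_iff]
    intro h
    exact hne ((Nat.prime_dvd_prime_iff_eq hz hr).1 h)
  have h1 : orderOf (r : ZMod z) ∣ z - 1 := orderOf_dvd_of_pow_eq_one (ZMod.pow_card_sub_one_eq_one hr0)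
  have h2 : orderOf (r : ZMod z) ∣ e := (dvd_pow_sub_one_iff e).1 hdvd
  have h3 : orderOf (r : ZMod z) = e := by
    have h4 := Nat.le_of_dvd he h2
    have h5 : 0 < orderOf (r : ZMod z) := Nat.pos_of_dvd_of_pos h1 (by have := hz.two_le; omega)
    by_contra hcon
    exact hmin _ h5 (by omega) ((dvd_pow_sub_one_iff _).2 dvd_rfl)
  exact ⟨he, h3 ▸ h1, h3⟩

theorem exists_half {r e q : ℕ} (hr : r.Prime) (h : r ^ e = q ^ 2) : ∃ f, e = 2 * f ∧ q = r ^ f := by
  have h1 : q ∣ r ^ e := by rw [h]; exact Dvd.intro_left q (by ring)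
  obtain ⟨f, -, hf⟩ := (Nat.dvd_prime_pow hr).1 h1
  refine ⟨f, ?_, hf⟩
  have : r ^ e = r ^ (2 * f) := by rw [h, hf, ← pow_mul, mul_comm]
  exact Nat.pow_right_injective hr.two_le this

end Arith

theorem le_similarity {F : Type*} [Field F] {p q : ℕ} {R : Subgroup (GL (Fin p) F)} (h : R ≤ GU p F q) :
    R ≤ similarityGroup (hermForm p F q) := by
  intro g hg
  exact ⟨1, fun u v => by rw [Units.val_one, one_mul]; exact h hg u v⟩

theorem prime_cases {p : ℕ} (hp : p.Prime) (h2 : p ≠ 2) : p = 3 ∨ p = 5 ∨ p = 7 ∨ p = 11 ∨ 13 ≤ p := by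
  by_contra hcon
  push Not at hcon
  obtain ⟨h3, h5, h7, h11, h13⟩ := hcon
  have := hp.two_le
  interval_cases p <;> first | omega | (revert hp; decide)

/-- The residue of `r` modulo a small prime. -/
theorem mod_of_dvd {z r d : ℕ} (h : z ∣ r ^ d - 1) (hr : 0 < r) (hz : 1 < z) : (r % z) ^ d % z = 1 := by
  have h1 : 1 ≤ r ^ d := Nat.one_le_pow _ _ hr
  have h2 : 1 ≡ r ^ d [MOD z] := (Nat.modEq_iff_dvd' h1).2 h
  rw [← Nat.pow_mod, ← h2, Nat.mod_eq_of_lt hz]

theorem not_mod {z r d : ℕ} (h : ¬ z ∣ r ^ d - 1) (hr : 0 < r) (hz : 1 < z) : (r % z) ^ d % z ≠ 1 := by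
  intro h1
  apply h
  have h0 : 1 ≤ r ^ d := Nat.one_le_pow _ _ hr
  rw [← Nat.modEq_iff_dvd' h0]
  change 1 % z = r ^ d % z
  rw [Nat.pow_mod, h1, Nat.mod_eq_of_lt hz]

theorem linFacts {p : ℕ} (hp : p.Prime) (h2 : p ≠ 2) : LinFacts.{u} p := by
  rcases prime_cases hp h2 with rfl | rfl | rfl | rfl | h13
  · refine ⟨?_, ?_, ?_⟩
    · intro F _ _ h4 K hK
      exact (Cfsg.Agent.S5774.result (F := F)).2.2.1 (h4 rfl) K hK
    · intro F _ _ R hR
      obtain ⟨r, e, hne, hmin, h⟩ := hR.field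
      rcases h with ⟨-, he, hc, -⟩ | ⟨h, -⟩ | ⟨h, -⟩
      · rw [hc] at hmin
        obtain ⟨he0, hed, -⟩ := min_field hp hne hmin
        have he1 : e = 1 := by
          have := Nat.le_of_dvd (by norm_num) hed
          rcases he with ⟨a, ha⟩
          omega
        subst he1
        refine (Cfsg.Agent.S5774.result (F := F)).2.2.2.2.1 r R hmin.1 (by rw [hmin.2.2.1, pow_one]) ?_ hR
        have h9 := hmin.2.2.2.1
        rw [pow_one] at h9
        have := hmin.1.two_le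
        omega
      · omega
      · omega
    · intro F _ _ σ f hf
      exact (Cfsg.Agent.S5774.result (F := F)).2.2.2.2.2.2 σ f hf
  · refine ⟨?_, ?_, ?_⟩
    · intro F _ _ h4 K hK
      exact (Cfsg.Agent.S5792.result (F := F)).2.2.1 K hK
    · intro F _ _ R hR
      obtain ⟨r, e, hne, hmin, h⟩ := hR.field
      rcases h with ⟨-, he, hc, -⟩ | ⟨h, -⟩ | ⟨h, -⟩
      · rw [hc] at hmin
        obtain ⟨he0, hed, -⟩ := min_field hp hne hmin
        have he1 : e = 1 := by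
          have := Nat.le_of_dvd (by norm_num) hed
          rcases he with ⟨a, ha⟩
          interval_cases e <;> omega
        subst he1
        refine (Cfsg.Agent.S5792.result (F := F)).2.2.2.2.1 ⟨r, hmin.1, by rw [hmin.2.2.1, pow_one], ?_⟩ R hR
        have h9 := hmin.2.2.2.1
        rw [pow_one] at h9
        have := hmin.1.two_le
        omega
      · omega
      · omega
    · intro F _ _ σ f hf
      exact (Cfsg.Agent.S5792.result (F := F)).2.2.2.2.2.2 σ f hf
  · refine ⟨?_, ?_, ?_⟩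
    · intro F _ _ h4 K hK
      exact (Cfsg.Agent.S5807.result (F := F)).2.2.1 K hK
    · intro F _ _ R hR
      obtain ⟨r, e, hne, hmin, h⟩ := hR.field
      rcases h with ⟨-, he, hc, -⟩ | ⟨h, -⟩ | ⟨h, -⟩
      · rw [hc] at hmin
        obtain ⟨he0, hed, -⟩ := min_field hp hne hmin
        have hr2 := hmin.1.two_le
        have he1 : e = 1 ∨ e = 3 := by
          have := Nat.le_of_dvd (by norm_num) hed
          rcases he with ⟨a, ha⟩
          interval_cases e <;> omega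
        refine (Cfsg.Agent.S5807.result (F := F)).2.2.2.2.1 ⟨r, hmin.1, hmin.2.1, ?_⟩ R hR
        rcases he1 with rfl | rfl
        · left
          refine ⟨by rw [hmin.2.2.1, pow_one], ?_⟩
          have h9 := hmin.2.2.2.1
          rw [pow_one] at h9
          omega
        · right
          refine ⟨hmin.2.2.1, ?_⟩
          have h1 := mod_of_dvd hmin.2.2.2.1 (by omega) (by norm_num)
          have h2 := not_mod (hmin.2.2.2.2 1 (by norm_num) (by norm_num)) (by omega) (by norm_num)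
          have h3 : r % 7 < 7 := Nat.mod_lt _ (by norm_num)
          generalize r % 7 = t at h1 h2 h3
          interval_cases t <;> simp_all only [_root_.ne_eq, _root_.Nat.reduceEqDiff, _root_.not_false_eq_true, _root_.Nat.ofNat_pos, _root_.Nat.add_one_sub_one, _root_.Nat.reduceDvd, _root_.OfNat.ofNat_ne_zero, _root_.zero_pow, _root_.Nat.zero_mod, _root_.zero_ne_one, _root_.one_pow, _root_.Nat.one_mod, _root_.not_true_eq_false, _root_.Nat.reducePow, _root_.Nat.reduceMod, _root_.pow_one, _root_.OfNat.ofNat_ne_one, _root_.Nat.reduceLT, _root_.or_false, _root_.or_true]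
      · omega
      · omega
    · intro F _ _ σ f hf
      exact (Cfsg.Agent.S5807.result (F := F)).2.2.2.2.2.2 σ f hf
  · refine ⟨?_, ?_, ?_⟩
    · intro F _ _ h4 K hK
      exact (Cfsg.Agent.S5852.result (F := F)).2.2.1 K hK
    · intro F _ _ R hR
      obtain ⟨r, e, hne, hmin, h⟩ := hR.field
      rcases h with ⟨-, he, hc, -⟩ | ⟨h, -⟩ | ⟨h, -⟩
      · rw [hc] at hmin
        obtain ⟨he0, hed, -⟩ := min_field hp hne hmin
        have hr2 := hmin.1.two_le
        have he1 : e = 1 ∨ e = 5 := by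
          have := Nat.le_of_dvd (by norm_num) hed
          rcases he with ⟨a, ha⟩
          interval_cases e <;> omega
        refine (Cfsg.Agent.S5852.result (F := F)).2.2.2.2.1 ⟨r, hmin.1, hmin.2.1, ?_⟩ R hR
        rcases he1 with rfl | rfl
        · left
          refine ⟨by rw [hmin.2.2.1, pow_one], ?_⟩
          have h9 := hmin.2.2.2.1
          rw [pow_one] at h9
          omega
        · right
          refine ⟨hmin.2.2.1, ?_⟩
          have h1 := mod_of_dvd hmin.2.2.2.1 (by omega) (by norm_num)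
          have h2 := not_mod (hmin.2.2.2.2 1 (by norm_num) (by norm_num)) (by omega) (by norm_num)
          have h3 : r % 11 < 11 := Nat.mod_lt _ (by norm_num)
          generalize r % 11 = t at h1 h2 h3
          interval_cases t <;> simp_all only [_root_.ne_eq, _root_.Nat.reduceEqDiff, _root_.not_false_eq_true, _root_.Nat.ofNat_pos, _root_.Nat.add_one_sub_one, _root_.Nat.reduceDvd, _root_.OfNat.ofNat_ne_zero, _root_.zero_pow, _root_.Nat.zero_mod, _root_.zero_ne_one, _root_.one_pow, _root_.Nat.one_mod, _root_.not_true_eq_false, _root_.Nat.reducePow, _root_.Nat.reduceMod, _root_.OfNat.ofNat_ne_one, _root_.pow_one, _root_.Nat.reduceLT, _root_.or_self, _root_.or_false, _root_.Nat.succ_ne_self, _root_.or_true]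
      · omega
      · omega
    · intro F _ _ σ f hf
      exact (Cfsg.Agent.S5852.result (F := F)).2.2.2.2.2.2 σ f hf
  · refine ⟨?_, ?_, ?_⟩
    · intro F _ _ _ K hK
      exact Cfsg.Agent.S5636.result p h13 p hp K hK
    · intro F _ _ R hR
      exact Cfsg.Agent.S5640.result p h13 p R hR
    · intro F _ _ σ f hf
      exact Cfsg.Agent.S5643.result p h13 σ f hf

theorem uniFacts {p : ℕ} (hp : p.Prime) (h2 : p ≠ 2) : UniFacts.{u} p := by
  rcases prime_cases hp h2 with rfl | rfl | rfl | rfl | h13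
  · refine ⟨?_, ?_, ?_⟩
    · intro F _ _ q hF h35 hq K hK hK'
      exact (Cfsg.Agent.S5777.result q hF hq).2.2.2.1 (h35 rfl).1 (h35 rfl).2 K hK hK'
    · intro F _ _ q hF hq F₀ s hs hso hc hP
      exact (Cfsg.Agent.S5777.result q hF hq).2.2.2.2.1 F₀ s 1 hs hso hc hP
    · intro F _ _ q hF hq R r e hR habs hRU hne hmin hc hZ
      obtain ⟨he0, hed, -⟩ := min_field hp hne hmin
      obtain ⟨f, rfl, rfl⟩ := exists_half hmin.1 (hmin.2.2.1.symm.trans hF)
      have hf1 : f = 1 := by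
        have := Nat.le_of_dvd (by norm_num) hed
        omega
      subst hf1
      rw [pow_one] at hq
      have hr2 := hmin.1.two_le
      have h1 := mod_of_dvd hmin.2.2.2.1 (by omega) (by norm_num)
      have h2 := not_mod (hmin.2.2.2.2 1 (by norm_num) (by norm_num)) (by omega) (by norm_num)
      have h3 : r % 3 < 3 := Nat.mod_lt _ (by norm_num)
      have h4 : r % 3 = 2 := by
        generalize r % 3 = t at h1 h2 h3
        interval_cases t <;> simp_all only [_root_.ne_eq, _root_.Nat.succ_ne_self, _root_.not_false_eq_true, _root_.Nat.reducePow, _root_.mul_one, _root_.Order.lt_two_iff, _root_.zero_le, _root_.Nat.add_one_sub_one, _root_.dvd_refl, _root_.pow_one, _root_.forall_const, _root_.OfNat.ofNat_ne_zero, _root_.zero_pow, _root_.Nat.zero_mod, _root_.zero_ne_one, _root_.one_pow, _root_.Nat.one_mod, _root_.not_true_eq_false, _root_.Nat.reduceMod, _root_.Nat.mod_succ, _root_.OfNat.ofNat_ne_one, _root_.Nat.lt_add_one]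
      have h11 : 11 ≤ r := by
        have h5 := hq rfl
        by_contra hlt
        have h6 : r = 8 := by omega
        have := hmin.1
        rw [h6] at this
        revert this; decide
      exact (Cfsg.Agent.S5777.result _ hF (by rw [pow_one]; omega)).2.2.2.2.2.2 r R hmin.1 (by rw [pow_one]) h4 h11 hR habs
        (le_similarity hRU) (by rw [hc]; norm_num) hZ
  · refine ⟨?_, ?_, ?_⟩
    · intro F _ _ q hF h35 hq K hK hK'
      exact (Cfsg.Agent.S5795.result q hF).2.2.2.1 hq K hK hK'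
    · intro F _ _ q hF hq F₀ s hs hso hc hP
      exact (Cfsg.Agent.S5795.result q hF).2.2.2.2.1 F₀ s 1 hs hso hc hP
    · intro F _ _ q hF hq R r e hR habs hRU hne hmin hc hZ
      obtain ⟨he0, hed, -⟩ := min_field hp hne hmin
      obtain ⟨f, rfl, rfl⟩ := exists_half hmin.1 (hmin.2.2.1.symm.trans hF)
      have hr2 := hmin.1.two_le
      have hf1 : f = 1 ∨ f = 2 := by
        have := Nat.le_of_dvd (by norm_num) hed
        omega
      refine (Cfsg.Agent.S5795.result _ hF).2.2.2.2.2.2 r R hmin.1 hmin.2.1 ?_ hR habs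
        (le_similarity hRU) (by rw [hc]; norm_num) hZ
      have h1 := mod_of_dvd hmin.2.2.2.1 (by omega) (by norm_num)
      have h3 : r % 5 < 5 := Nat.mod_lt _ (by norm_num)
      rcases hf1 with rfl | rfl
      · left
        refine ⟨pow_one _, ?_⟩
        have h2 := not_mod (hmin.2.2.2.2 1 (by norm_num) (by norm_num)) (by omega) (by norm_num)
        generalize r % 5 = t at h1 h2 h3
        interval_cases t <;> simp_all only [_root_.ne_eq, _root_.Nat.reduceEqDiff, _root_.not_false_eq_true, _root_.Nat.reducePow, _root_.mul_one, _root_.Order.lt_two_iff, _root_.zero_le, _root_.Nat.add_one_sub_one, _root_.Nat.reduceDvd, _root_.pow_one, _root_.IsEmpty.forall_iff, _root_.OfNat.ofNat_ne_zero, _root_.zero_pow, _root_.Nat.zero_mod, _root_.zero_ne_one, _root_.one_pow, _root_.Nat.one_mod, _root_.not_true_eq_false, _root_.Nat.mod_succ, _root_.OfNat.ofNat_ne_one, _root_.Nat.reduceMod, _root_.Nat.lt_add_one]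
      · right
        refine ⟨rfl, ?_⟩
        have h2 := not_mod (hmin.2.2.2.2 2 (by norm_num) (by norm_num)) (by omega) (by norm_num)
        generalize r % 5 = t at h1 h2 h3
        interval_cases t <;> simp_all only [_root_.ne_eq, _root_.Nat.reduceEqDiff, _root_.not_false_eq_true, _root_.Nat.reducePow, _root_.Nat.reduceMul, _root_.Nat.ofNat_pos, _root_.Nat.add_one_sub_one, _root_.dvd_refl, _root_.IsEmpty.forall_iff, _root_.OfNat.ofNat_ne_zero, _root_.zero_pow, _root_.Nat.zero_mod, _root_.zero_ne_one, _root_.one_pow, _root_.Nat.one_mod, _root_.not_true_eq_false, _root_.Nat.reduceMod, _root_.Nat.mod_succ, _root_.OfNat.ofNat_ne_one, _root_.Nat.reduceLT, _root_.or_false, _root_.Nat.succ_ne_self, _root_.or_true]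
  · refine ⟨?_, ?_, ?_⟩
    · intro F _ _ q hF h35 hq K hK hK'
      exact (Cfsg.Agent.S5810.result q hF).2.2.2.1 K hK hK'
    · intro F _ _ q hF hq F₀ s hs hso hc hP
      exact (Cfsg.Agent.S5810.result q hF).2.2.2.2.1 F₀ s 1 hs hso hc hP
    · intro F _ _ q hF hq R r e hR habs hRU hne hmin hc hZ
      obtain ⟨he0, hed, -⟩ := min_field hp hne hmin
      obtain ⟨f, rfl, rfl⟩ := exists_half hmin.1 (hmin.2.2.1.symm.trans hF)
      have hr2 := hmin.1.two_le
      have hf1 : f = 1 ∨ f = 3 := by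
        have := Nat.le_of_dvd (by norm_num) hed
        have : f ≤ 3 := by omega
        interval_cases f <;> omega
      refine (Cfsg.Agent.S5810.result _ hF).2.2.2.2.2.2 r R hmin.1 hmin.2.1 ?_ hR habs
        (le_similarity hRU) (by rw [hc]; norm_num) hZ
      have h1 := mod_of_dvd hmin.2.2.2.1 (by omega) (by norm_num)
      have h3 : r % 7 < 7 := Nat.mod_lt _ (by norm_num)
      rcases hf1 with rfl | rfl
      · left
        refine ⟨pow_one _, ?_⟩
        have h2 := not_mod (hmin.2.2.2.2 1 (by norm_num) (by norm_num)) (by omega) (by norm_num)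
        generalize r % 7 = t at h1 h2 h3
        interval_cases t <;> simp_all only [_root_.ne_eq, _root_.Nat.reduceEqDiff, _root_.not_false_eq_true, _root_.Nat.reducePow, _root_.mul_one, _root_.Order.lt_two_iff, _root_.zero_le, _root_.Nat.add_one_sub_one, _root_.Nat.reduceDvd, _root_.pow_one, _root_.IsEmpty.forall_iff, _root_.OfNat.ofNat_ne_zero, _root_.zero_pow, _root_.Nat.zero_mod, _root_.zero_ne_one, _root_.one_pow, _root_.Nat.one_mod, _root_.not_true_eq_false, _root_.Nat.reduceMod, _root_.OfNat.ofNat_ne_one, _root_.Nat.mod_succ, _root_.Nat.lt_add_one]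
      · right
        refine ⟨rfl, ?_⟩
        have h2 := not_mod (hmin.2.2.2.2 2 (by norm_num) (by norm_num)) (by omega) (by norm_num)
        have h2' := not_mod (hmin.2.2.2.2 3 (by norm_num) (by norm_num)) (by omega) (by norm_num)
        generalize r % 7 = t at h1 h2 h2' h3
        interval_cases t <;> simp_all only [_root_.ne_eq, _root_.Nat.reduceEqDiff, _root_.not_false_eq_true, _root_.Nat.reducePow, _root_.Nat.reduceMul, _root_.Nat.ofNat_pos, _root_.Nat.add_one_sub_one, _root_.dvd_refl, _root_.IsEmpty.forall_iff, _root_.OfNat.ofNat_ne_zero, _root_.zero_pow, _root_.Nat.zero_mod, _root_.zero_ne_one, _root_.one_pow, _root_.Nat.one_mod, _root_.not_true_eq_false, _root_.Nat.reduceMod, _root_.OfNat.ofNat_ne_one, _root_.Nat.reduceLT, _root_.or_false, _root_.or_true]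
  · refine ⟨?_, ?_, ?_⟩
    · intro F _ _ q hF h35 hq K hK hK'
      exact (Cfsg.Agent.S5855.result q hF).2.2.2.1 K hK hK'
    · intro F _ _ q hF hq F₀ s hs hso hc hP
      exact (Cfsg.Agent.S5855.result q hF).2.2.2.2.1 F₀ s 1 hs hso hc hP
    · intro F _ _ q hF hq R r e hR habs hRU hne hmin hc hZ
      obtain ⟨he0, hed, -⟩ := min_field hp hne hmin
      obtain ⟨f, rfl, rfl⟩ := exists_half hmin.1 (hmin.2.2.1.symm.trans hF)
      have hr2 := hmin.1.two_le
      have hf1 : f = 1 ∨ f = 5 := by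
        have := Nat.le_of_dvd (by norm_num) hed
        have : f ≤ 5 := by omega
        interval_cases f <;> omega
      refine (Cfsg.Agent.S5855.result _ hF).2.2.2.2.2.2 r R hmin.1 hmin.2.1 ?_ hR habs
        hRU (by rw [hc]; norm_num) hZ
      have h1 := mod_of_dvd hmin.2.2.2.1 (by omega) (by norm_num)
      have h3 : r % 11 < 11 := Nat.mod_lt _ (by norm_num)
      rcases hf1 with rfl | rfl
      · left
        refine ⟨pow_one _, ?_⟩
        have h2 := not_mod (hmin.2.2.2.2 1 (by norm_num) (by norm_num)) (by omega) (by norm_num)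
        generalize r % 11 = t at h1 h2 h3
        interval_cases t <;> simp_all only [_root_.ne_eq, _root_.Nat.reduceEqDiff, _root_.not_false_eq_true, _root_.Nat.reducePow, _root_.mul_one, _root_.Order.lt_two_iff, _root_.zero_le, _root_.Nat.add_one_sub_one, _root_.Nat.reduceDvd, _root_.pow_one, _root_.IsEmpty.forall_iff, _root_.OfNat.ofNat_ne_zero, _root_.zero_pow, _root_.Nat.zero_mod, _root_.zero_ne_one, _root_.one_pow, _root_.Nat.one_mod, _root_.not_true_eq_false, _root_.Nat.reduceMod, _root_.OfNat.ofNat_ne_one, _root_.Nat.mod_succ, _root_.Nat.lt_add_one]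
      · right
        refine ⟨rfl, ?_⟩
        have h2 := not_mod (hmin.2.2.2.2 2 (by norm_num) (by norm_num)) (by omega) (by norm_num)
        have h2' := not_mod (hmin.2.2.2.2 5 (by norm_num) (by norm_num)) (by omega) (by norm_num)
        generalize r % 11 = t at h1 h2 h2' h3
        interval_cases t <;> simp_all only [_root_.ne_eq, _root_.Nat.reduceEqDiff, _root_.not_false_eq_true, _root_.Nat.reducePow, _root_.Nat.reduceMul, _root_.Nat.ofNat_pos, _root_.Nat.add_one_sub_one, _root_.dvd_refl, _root_.IsEmpty.forall_iff, _root_.OfNat.ofNat_ne_zero, _root_.zero_pow, _root_.Nat.zero_mod, _root_.zero_ne_one, _root_.one_pow, _root_.Nat.one_mod, _root_.not_true_eq_false, _root_.Nat.reduceMod, _root_.OfNat.ofNat_ne_one, _root_.Nat.reduceLT, _root_.or_self, _root_.or_false, _root_.or_true, _root_.Nat.succ_ne_self]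
  · refine ⟨?_, ?_, ?_⟩
    · intro F _ _ q hF h35 hq K hK hK'
      exact Cfsg.Agent.S5669.result p q hF h13 p hp (hp.odd_of_ne_two h2) K hK hK'
    · intro F _ _ q hF hq F₀ s hs hso hc hP
      exact Cfsg.Agent.S5658.result p q hF h13 F₀ s hs hso hc 1 hP
    · intro F _ _ q hF hq R r e hR habs hRU hne hmin hc hZ
      exact Cfsg.Agent.S5661.result p q hF h13 p R r e 1 hR habs hRU hne (by rw [hZ]; exact hmin)
        (Or.inl ⟨hp.odd_of_ne_two h2, hZ, le_rfl, by rw [hc]⟩)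

end Cfsg.Agent.H321.Ker
end

-- part: H321/Mono/OrbA
section
prune_inst 0x400000000000000000000000000000000000000000000000120000000000000048110000000000000000000000000000000000000081080000000090000000000000000000000000000000000000000000000000000
set_option linter.all false
open scoped Cfsg.Agent.FastGrp

-- part: H321/Ker/Orb
section
/-!
# S2187, kernel row: orbits of type `A_{p-1}` in a group `Y`

* `fix_gen` : the fixed points of `stm` in `SL_n(k)` are generated by those of order `r`;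
* `exists_plane` : `B ≤ E` of index `p ^ 2`, `f ∈ E \ B` : `B ⊔ ⟨f⟩` is a hyperplane;
* `orb_hom_of` : `E ≤ Y^σ` elementary abelian, `B ≤ E` of index `p ^ 2` centralises `ψ (SL_p(k))`, `ya`, `yb ∈ E` act as a
  non-commuting pair: all `r`-elements `ψ g ∈ Y^σ` lie in `ι M₀`, if `M₀ ≤ K₀` contains all `a ∈ K₀` such that `ι a` commutes
  with a hyperplane of `E`;
* `orb_cyclic_of` : the form with transvections (orbits of `p` roots spanning a system of type `A_{p-1}`).
-/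

set_option autoImplicit false
set_option linter.unusedSectionVars false

universe u

namespace Cfsg.Agent.H321.Ker

open Cfsg Cfsg.Geo
open scoped MatrixGroups Matrix commutatorElement
open Matrix.SpecialLinearGroup (toGL transvection)
open Cfsg.Agent.H918 (SUg)

section Fix

variable {n : ℕ} [NeZero n] {k : Type*} [Field k] [IsAlgClosed k] {r e : ℕ} [Fact r.Prime] [CharP k r]

theorem stG_false_conj {D x : GL (Fin n) k} (hx : D = x * (fr r e x)⁻¹) (y : GL (Fin n) k) :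
    stG r e D false (x * y * x⁻¹) = x * fr r e y * x⁻¹ := by
  rw [stG_false, map_mul, map_mul, map_inv, hx]
  group

theorem stG_true_conj {D x : GL (Fin n) k} (hx : D = x * (it (fr r e x))⁻¹) (y : GL (Fin n) k) :
    stG r e D true (x * y * x⁻¹) = x * it (fr r e y) * x⁻¹ := by
  rw [stG_true, map_mul, map_mul, map_mul, map_mul, map_inv, map_inv, hx]
  group

/-- `1 + N`, `N ^ 2 = 0`, has order `r` in characteristic `r` -/
theorem pow_char_eq_one {F : Type*} [Field F] [CharP F r] {g : GL (Fin n) F} {N : Matrix (Fin n) (Fin n) F}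
    (hg : (g : Matrix (Fin n) (Fin n) F) = 1 + N) (hN : N * N = 0) : g ^ r = 1 := by
  have : CharP (Matrix (Fin n) (Fin n) F) r := inferInstance
  apply Units.ext
  rw [Units.val_pow_eq_pow_val, hg, add_pow_char_of_commute _ (Commute.one_left N), one_pow, Units.val_one]
  have h2 := (Fact.out : r.Prime).two_le
  obtain ⟨m, rfl⟩ : ∃ m, r = 2 + m := ⟨r - 2, by omega⟩
  rw [pow_add, pow_two, hN, zero_mul, add_zero]

theorem charP_subfield {F₀ : Subfield k} : CharP F₀ r := by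
  refine ⟨fun x => ?_⟩
  rw [← CharP.cast_eq_zero_iff k r x]
  constructor
  · intro h
    have := congrArg (fun z : F₀ => (z : k)) h
    simpa using this
  · intro h
    apply Subtype.ext
    simpa using h

/-- **The fixed points of `stm` are generated by elements of order `r`.** -/
theorem fix_gen (hn : 3 ≤ n) (he : 0 < e) (h32 : ¬ (n = 3 ∧ r ^ e = 2)) {D : GL (Fin n) k} {uni : Bool}
    {g : Matrix.SpecialLinearGroup (Fin n) k} (hg : stm r e D uni g = g) :
    g ∈ Subgroup.closure {h : Matrix.SpecialLinearGroup (Fin n) k | stm r e D uni h = h ∧ h ^ r = 1} := by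
  have : Nontrivial (Fin n) := Fin.nontrivial_iff_two_le.2 (by omega)
  set P := Subgroup.closure {h : Matrix.SpecialLinearGroup (Fin n) k | stm r e D uni h = h ∧ h ^ r = 1} with hP
  have hmem : ∀ {F₀ : Subfield k} {x : GL (Fin n) k} {t : GL (Fin n) F₀} (_ : t ∈ specialLinear (Fin n) F₀)
      (_ : t ^ r = 1) (_ : stG r e D uni (x * ex n F₀ t * x⁻¹) = x * ex n F₀ t * x⁻¹),
      x * ex n F₀ t * x⁻¹ ∈ P.map toGL := by
    intro F₀ x t ht htr hfix
    set t' : Matrix.SpecialLinearGroup (Fin n) k := ⟨(x * ex n F₀ t * x⁻¹).1, mem_SL_iff.1 (conj_mem_SL x (ex_SL ht))⟩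
      with ht'
    have h1 : toGL t' = x * ex n F₀ t * x⁻¹ := Units.ext rfl
    refine ⟨t', Subgroup.subset_closure ⟨toGL_inj' (by rw [toGL_stm, h1, hfix]), toGL_inj' ?_⟩, h1⟩
    rw [map_pow, h1, conj_pow, ← map_pow, htr, map_one, map_one]
    group
  have hsl : ∀ {F₀ : Subfield k} {x : GL (Fin n) k} {g₀ : GL (Fin n) F₀},
      ex n F₀ g₀ = x⁻¹ * toGL g * x → g₀ ∈ specialLinear (Fin n) F₀ := by
    intro F₀ x g₀ hg₀
    have h3 : ex n F₀ g₀ ∈ specialLinear (Fin n) k := by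
      rw [hg₀]
      have := conj_mem_SL x⁻¹ (toGL_mem g)
      rwa [inv_inv] at this
    rw [mem_SL_iff] at h3 ⊢
    have h4 : (ex n F₀ g₀ : Matrix (Fin n) (Fin n) k) =
      (F₀.subtype : F₀ →+* k).mapMatrix (g₀ : Matrix (Fin n) (Fin n) F₀) := rfl
    rw [h4, ← RingHom.map_det] at h3
    exact Subtype.ext h3
  have hfin : ∀ {F₀ : Subfield k} {x : GL (Fin n) k} {g₀ : GL (Fin n) F₀}, ex n F₀ g₀ = x⁻¹ * toGL g * x →
      x * ex n F₀ g₀ * x⁻¹ ∈ P.map toGL → g ∈ P := by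
    intro F₀ x g₀ hg₀ h
    rw [hg₀] at h
    have h1 : x * (x⁻¹ * toGL g * x) * x⁻¹ = toGL g := by group
    rw [h1] at h
    obtain ⟨g', hg', h2⟩ := h
    rwa [toGL_inj' h2] at hg'
  have hgG : stG r e D uni (toGL g) = toGL g := by rw [← toGL_stm, hg]
  cases uni with
  | false =>
    obtain ⟨x, hx⟩ := lang_fr (r := r) he D
    have h1 : fr r e (x⁻¹ * toGL g * x) = x⁻¹ * toGL g * x := by
      have h2 := stG_false_conj hx (x⁻¹ * toGL g * x)
      have h3 : x * (x⁻¹ * toGL g * x) * x⁻¹ = toGL g := by group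
      rw [h3, hgG] at h2
      calc fr r e (x⁻¹ * toGL g * x) = x⁻¹ * (x * fr r e (x⁻¹ * toGL g * x) * x⁻¹) * x := by group
        _ = _ := by rw [← h2]
    obtain ⟨g₀, hg₀⟩ := exists_ex h1
    refine hfin hg₀ ?_
    -- transvections
    have h2 : ∀ A : Matrix.SpecialLinearGroup (Fin n) (Fk r e : Subfield k),
        x * ex n (Fk r e) (toGL A) * x⁻¹ ∈ P.map toGL := by
      intro A
      refine Cfsg.Agent.LieClassical.SLGen.transvection_induction
        (fun A => x * ex n (Fk r e) (toGL A) * x⁻¹ ∈ P.map toGL) (fun i j hij c => ?_) (fun A B hA hB => ?_) A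
      · have : CharP (Fk r e : Subfield k) r := charP_subfield
        refine hmem (toGL_mem _) (pow_char_eq_one (N := Matrix.single i j c) (coe_transvection hij c) ?_) ?_
        · rw [Matrix.single_mul_single_of_ne]
          exact hij.symm
        · rw [stG_false_conj hx, fr_ex]
      · have : x * ex n (Fk r e) (toGL (A * B)) * x⁻¹ =
            (x * ex n (Fk r e) (toGL A) * x⁻¹) * (x * ex n (Fk r e) (toGL B) * x⁻¹) := by
          rw [map_mul, map_mul]; group
        rw [this]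
        exact mul_mem hA hB
    have h3 := h2 ⟨g₀.1, mem_SL_iff.1 (hsl hg₀)⟩
    have h4 : toGL (⟨g₀.1, mem_SL_iff.1 (hsl hg₀)⟩ : Matrix.SpecialLinearGroup (Fin n) (Fk r e : Subfield k)) = g₀ :=
      Units.ext rfl
    rwa [h4] at h3
  | true =>
    obtain ⟨x, hx⟩ := lang_it (r := r) he D
    have he2 : 0 < e + e := by omega
    have h1 : it (fr r e (x⁻¹ * toGL g * x)) = x⁻¹ * toGL g * x := by
      have h2 := stG_true_conj hx (x⁻¹ * toGL g * x)
      have h3 : x * (x⁻¹ * toGL g * x) * x⁻¹ = toGL g := by group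
      rw [h3, hgG] at h2
      calc it (fr r e (x⁻¹ * toGL g * x)) = x⁻¹ * (x * it (fr r e (x⁻¹ * toGL g * x)) * x⁻¹) * x := by group
        _ = _ := by rw [← h2]
    have hctct : fr r (e + e) (x⁻¹ * toGL g * x) = x⁻¹ * toGL g * x := by
      rw [← fr_fr]
      have h3 : ∀ y : GL (Fin n) k, it (fr r e (it (fr r e y))) = fr r e (fr r e y) := fun y => by
        rw [← it_fr, it_it]
      rw [← h3, h1, h1]
    obtain ⟨g₀, hg₀⟩ := exists_ex hctct
    refine hfin hg₀ ?_
    have := finite_Fk (k := k) (r := r) he2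
    let _ : Fintype (Fk r (e + e) : Subfield k) := Fintype.ofFinite _
    have hcard : Fintype.card (Fk r (e + e) : Subfield k) = (r ^ e) ^ 2 := by
      rw [← Nat.card_eq_fintype_card, card_Fk_alg he2, ← pow_mul, mul_two]
    have hU : g₀ ∈ SUg n (Fk r (e + e) : Subfield k) (r ^ e) := ⟨mem_GU_of_it (by rw [hg₀, h1]), hsl hg₀⟩
    have h2 : SUg n (Fk r (e + e) : Subfield k) (r ^ e) ≤
        (P.map toGL).comap ((MulAut.conj x).toMonoidHom.comp (ex n (Fk r (e + e)))) := by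
      refine Cfsg.Agent.H918.SUg_le_of_tv hcard h32 fun v c hv hc => ?_
      have : CharP (Fk r (e + e) : Subfield k) r := charP_subfield
      have ht := Cfsg.Agent.H918.tv_mem hcard hv hc
      refine hmem ht.2 (pow_char_eq_one (N := c • Matrix.vecMulVec v (fun j => v j ^ r ^ e))
        (Cfsg.Agent.H918.coe_tv hcard hv hc) ?_) ?_
      · rw [Matrix.smul_mul, Matrix.mul_smul, Matrix.vecMulVec_mul_vecMulVec]
        have h3 : (fun j => v j ^ r ^ e) ⬝ᵥ v = 0 := by
          rw [dotProduct_comm]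
          exact hv
        rw [h3]
        simp
      · rw [stG_true_conj hx, it_of_mem_GU ht.1]
    exact h2 hU

end Fix

section Plane

variable {Y : Type*} [Group Y] {p : ℕ} [hp : Fact p.Prime]

/-- A subgroup of index `p ^ 2` and one more element generate a hyperplane. -/
theorem exists_plane {E B : Subgroup Y} (hEp : ∀ a ∈ E, a ^ p = 1) (hEc : ∀ a ∈ E, ∀ b ∈ E, a * b = b * a)
    (hB : B ≤ E) (hBi : B.relIndex E = p ^ 2) {f : Y} (hf : f ∈ E) (hfB : f ∉ B) :
    ∃ F ≤ E, F.relIndex E = p ∧ B ≤ F ∧ f ∈ F ∧ ∀ x ∈ F, ∃ b ∈ B, ∃ m : ℤ, x = b * f ^ m := by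
  have hp0 := hp.1.pos
  have hfo : orderOf f = p := orderOf_eq_prime (hEp f hf) (fun h => hfB (h ▸ B.one_mem))
  set F := B ⊔ Subgroup.zpowers f with hF
  have hFE : F ≤ E := sup_le hB (Subgroup.zpowers_le.2 hf)
  have hmem : ∀ x ∈ F, ∃ b ∈ B, ∃ m : ℤ, x = b * f ^ m := by
    intro x hx
    have h1 : F ≤ (⟨⟨⟨{x | ∃ b ∈ B, ∃ m : ℤ, x = b * f ^ m}, by
        rintro _ _ ⟨b, hb, m, rfl⟩ ⟨b', hb', m', rfl⟩
        refine ⟨b * b', mul_mem hb hb', m + m', ?_⟩
        have h1 : Commute (f ^ m) b' := (show Commute f b' from hEc f hf b' (hB hb')).zpow_left m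
        calc b * f ^ m * (b' * f ^ m') = b * (f ^ m * b') * f ^ m' := by group
          _ = _ := by rw [h1.eq]; group⟩, ⟨1, one_mem _, 0, by simp⟩⟩, by
        rintro _ ⟨b, hb, m, rfl⟩
        refine ⟨b⁻¹, inv_mem hb, -m, ?_⟩
        have h1 : Commute (f ^ (-m)) b⁻¹ := (show Commute f b⁻¹ from hEc f hf b⁻¹ (hB (inv_mem hb))).zpow_left (-m)
        rw [mul_inv_rev, ← zpow_neg, h1.eq]⟩ : Subgroup Y) := by
      refine sup_le (fun b hb => ⟨b, hb, 0, by simp⟩) ?_
      rw [Subgroup.zpowers_le]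
      exact ⟨1, one_mem _, 1, by simp⟩
    exact h1 hx
  have h1 : B.relIndex F = p := by
    -- `F = B × ⟨f⟩`
    have h2 : B.relIndex F = (B ⊓ Subgroup.zpowers f).relIndex (Subgroup.zpowers f) := by
      rw [Subgroup.inf_relIndex_right]
      have hn : (B.subgroupOf F).Normal := by
        refine ⟨fun a ha g => ?_⟩
        have h3 : g * a * g⁻¹ = a := by
          apply Subtype.ext
          show (g : Y) * a * (g : Y)⁻¹ = a
          rw [hEc g (hFE g.2) a (hFE a.2), mul_inv_cancel_right]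
        rwa [h3]
      -- the quotient map restricted to `⟨f⟩` is onto
      have h4 : (Subgroup.zpowers f).subgroupOf F ⊔ B.subgroupOf F = ⊤ := by
        rw [eq_top_iff]
        rintro ⟨x, hx⟩ -
        obtain ⟨b, hb, m, rfl⟩ := hmem x hx
        have hbF : b ∈ F := (le_sup_left : B ≤ F) hb
        have hfF : f ^ m ∈ F := (le_sup_right : Subgroup.zpowers f ≤ F) (zpow_mem (Subgroup.mem_zpowers f) m)
        have h5 : (⟨b * f ^ m, hx⟩ : F) = ⟨b, hbF⟩ * ⟨f ^ m, hfF⟩ := rfl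
        rw [h5]
        exact mul_mem ((le_sup_right : B.subgroupOf F ≤ _) hb)
          ((le_sup_left : (Subgroup.zpowers f).subgroupOf F ≤ _) (zpow_mem (Subgroup.mem_zpowers f) m))
      have h6 : (B.subgroupOf F).relIndex ((Subgroup.zpowers f).subgroupOf F) = (B.subgroupOf F).index := by
        rw [← Subgroup.relIndex_sup_right, h4, Subgroup.relIndex_top_right]
      rw [Subgroup.relIndex_subgroupOf (le_sup_right : Subgroup.zpowers f ≤ F)] at h6
      exact h6.symm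
    have h3 : B ⊓ Subgroup.zpowers f = ⊥ := by
      rw [eq_bot_iff]
      rintro x ⟨hxB, hxf⟩
      by_contra hx1
      have hx1' : x ≠ 1 := hx1
      have h4 : Subgroup.zpowers x = Subgroup.zpowers f := by
        have hle : Subgroup.zpowers x ≤ Subgroup.zpowers f := Subgroup.zpowers_le.2 hxf
        have hxo : orderOf x = p := orderOf_eq_prime (hEp x (hB hxB)) hx1'
        have : Finite (Subgroup.zpowers f) := Nat.finite_of_card_ne_zero (by
          rw [Nat.card_zpowers, hfo]; exact hp0.ne')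
        exact Subgroup.eq_of_le_of_card_ge hle (by rw [Nat.card_zpowers, Nat.card_zpowers, hxo, hfo])
      have h5 : f ∈ Subgroup.zpowers x := by rw [h4]; exact Subgroup.mem_zpowers f
      exact hfB ((Subgroup.zpowers_le.2 hxB) h5)
    rw [h2, h3, Subgroup.relIndex_bot_left, Nat.card_zpowers, hfo]
  refine ⟨F, hFE, ?_, le_sup_left, (le_sup_right : Subgroup.zpowers f ≤ F) (Subgroup.mem_zpowers f), hmem⟩
  have h2 := Subgroup.relIndex_mul_relIndex B F E le_sup_left hFE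
  rw [h1, hBi, pow_two] at h2
  exact Nat.eq_of_mul_eq_mul_left hp0 h2

end Plane

section Orb

variable {p : ℕ} [hp : Fact p.Prime] [NeZero p] {k : Type u} [Field k] [IsAlgClosed k] {r e : ℕ} [Fact r.Prime]
  [CharP k r] {Y : Type*} [Group Y] {K₀ : Type*} [Group K₀]

variable {ι : K₀ →* Y} {σ : Y →* Y} {E B : Subgroup Y} {M₀ : Subgroup K₀}

end Orb

end Cfsg.Agent.H321.Ker
end

-- part: H321/Mono/Base
section
/-!
# S2187, X4: the kernel row with a subgroup of `SL_p(k)`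

* `comm_stm` : `σ ∘ ψ = ψ ∘ stm`, `σ y = y`, `y` acts as `cj x` : `cj x` commutes with `stm`;
* `relIndex_sup_zpowers` : `B` has index `p` in `B ⊔ ⟨f⟩`;
* `orb_sl_of` : `E` elementary abelian, `B ≤ E` of index `p ^ 2` centralises `ψ (SL_p(k))`, `ya`, `yb ∈ E` act as a
  non-commuting pair commuting with `stm`: a subgroup `M ≤ SL_p(k)` which contains the fixed points `g` of `stm` such that
  `ψ g` commutes with a hyperplane of `E` contains all fixed points;
* `exists_fixed` : `r`-elements of `ψ (SL_p(k))` fixed by `σ` are images of fixed points.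
-/

set_option autoImplicit false
set_option linter.unusedSectionVars false

universe u

namespace Cfsg.Agent.H321.Mono

open Cfsg Cfsg.Geo Cfsg.Agent.H321.Ker
open scoped MatrixGroups Matrix commutatorElement
open Matrix.SpecialLinearGroup (toGL transvection)

section Plane

variable {Y : Type*} [Group Y] {p : ℕ} [hp : Fact p.Prime]

/-- `B` has index `p` in `B ⊔ ⟨f⟩` -/
theorem relIndex_sup_zpowers {B : Subgroup Y} {f : Y} (hf : f ^ p = 1) (hc : ∀ b ∈ B, f * b = b * f) (hfB : f ∉ B) :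
    B.relIndex (B ⊔ Subgroup.zpowers f) = p ∧ ∀ x ∈ B ⊔ Subgroup.zpowers f, ∃ b ∈ B, ∃ m : ℤ, x = b * f ^ m := by
  have hp0 := hp.1.pos
  have hfo : orderOf f = p := orderOf_eq_prime hf (fun h => hfB (h ▸ B.one_mem))
  set F := B ⊔ Subgroup.zpowers f with hF
  have hcz : ∀ (m : ℤ), ∀ b ∈ B, f ^ m * b = b * f ^ m := fun m b hb =>
    ((show Commute f b from hc b hb).zpow_left m).eq
  have hmem : ∀ x ∈ F, ∃ b ∈ B, ∃ m : ℤ, x = b * f ^ m := by
    intro x hx
    have h1 : F ≤ (⟨⟨⟨{x | ∃ b ∈ B, ∃ m : ℤ, x = b * f ^ m}, by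
        rintro _ _ ⟨b, hb, m, rfl⟩ ⟨b', hb', m', rfl⟩
        refine ⟨b * b', mul_mem hb hb', m + m', ?_⟩
        calc b * f ^ m * (b' * f ^ m') = b * (f ^ m * b') * f ^ m' := by group
          _ = _ := by rw [hcz m b' hb']; group⟩, ⟨1, one_mem _, 0, by simp⟩⟩, by
        rintro _ ⟨b, hb, m, rfl⟩
        refine ⟨b⁻¹, inv_mem hb, -m, ?_⟩
        rw [mul_inv_rev, ← zpow_neg, hcz (-m) b⁻¹ (inv_mem hb)]⟩ : Subgroup Y) := by
      refine sup_le (fun b hb => ⟨b, hb, 0, by simp⟩) ?_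
      rw [Subgroup.zpowers_le]
      exact ⟨1, one_mem _, 1, by simp⟩
    exact h1 hx
  refine ⟨?_, hmem⟩
  have h2 : B.relIndex F = (B ⊓ Subgroup.zpowers f).relIndex (Subgroup.zpowers f) := by
    rw [Subgroup.inf_relIndex_right]
    have hn : (B.subgroupOf F).Normal := by
      refine ⟨fun a ha g => ?_⟩
      obtain ⟨b, hb, m, hg⟩ := hmem g.1 g.2
      have h3 : (g * a * g⁻¹ : F).1 = b * a * b⁻¹ := by
        show (g : Y) * a * (g : Y)⁻¹ = _
        rw [hg, mul_inv_rev]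
        calc b * f ^ m * (a : Y) * ((f ^ m)⁻¹ * b⁻¹) = b * (f ^ m * (a : Y)) * (f ^ m)⁻¹ * b⁻¹ := by group
          _ = _ := by rw [hcz m a ha]; group
      show (g * a * g⁻¹ : F).1 ∈ B
      rw [h3]
      exact mul_mem (mul_mem hb ha) (inv_mem hb)
    have h4 : (Subgroup.zpowers f).subgroupOf F ⊔ B.subgroupOf F = ⊤ := by
      rw [eq_top_iff]
      rintro ⟨x, hx⟩ -
      obtain ⟨b, hb, m, rfl⟩ := hmem x hx
      have hbF : b ∈ F := (le_sup_left : B ≤ F) hb
      have hfF : f ^ m ∈ F := (le_sup_right : Subgroup.zpowers f ≤ F) (zpow_mem (Subgroup.mem_zpowers f) m)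
      have h5 : (⟨b * f ^ m, hx⟩ : F) = ⟨b, hbF⟩ * ⟨f ^ m, hfF⟩ := rfl
      rw [h5]
      exact mul_mem ((le_sup_right : B.subgroupOf F ≤ _) hb)
        ((le_sup_left : (Subgroup.zpowers f).subgroupOf F ≤ _) (zpow_mem (Subgroup.mem_zpowers f) m))
    have h6 : (B.subgroupOf F).relIndex ((Subgroup.zpowers f).subgroupOf F) = (B.subgroupOf F).index := by
      rw [← Subgroup.relIndex_sup_right, h4, Subgroup.relIndex_top_right]
    rw [Subgroup.relIndex_subgroupOf (le_sup_right : Subgroup.zpowers f ≤ F)] at h6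
    exact h6.symm
  have h3 : B ⊓ Subgroup.zpowers f = ⊥ := by
    rw [eq_bot_iff]
    rintro x ⟨hxB, hxf⟩
    by_contra hx1
    have hx1' : x ≠ 1 := hx1
    have hxp : x ^ p = 1 := by
      obtain ⟨m, rfl⟩ := Subgroup.mem_zpowers_iff.1 hxf
      rw [← zpow_natCast, ← zpow_mul, mul_comm, zpow_mul, zpow_natCast, hf, one_zpow]
    have h4 : Subgroup.zpowers x = Subgroup.zpowers f := by
      have hle : Subgroup.zpowers x ≤ Subgroup.zpowers f := Subgroup.zpowers_le.2 hxf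
      have hxo : orderOf x = p := orderOf_eq_prime hxp hx1'
      have : Finite (Subgroup.zpowers f) := Nat.finite_of_card_ne_zero (by
        rw [Nat.card_zpowers, hfo]; exact hp0.ne')
      exact Subgroup.eq_of_le_of_card_ge hle (by rw [Nat.card_zpowers, Nat.card_zpowers, hxo, hfo])
    have h5 : f ∈ Subgroup.zpowers x := by rw [h4]; exact Subgroup.mem_zpowers f
    exact hfB ((Subgroup.zpowers_le.2 hxB) h5)
  rw [h2, h3, Subgroup.relIndex_bot_left, Nat.card_zpowers, hfo]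

/-- `B ⊔ ⟨y⟩ ⊔ ⟨f⟩` -/
theorem relIndex_two {E B : Subgroup Y} (hEp : ∀ a ∈ E, a ^ p = 1) (hEc : ∀ a ∈ E, ∀ b ∈ E, a * b = b * a)
    (hB : B ≤ E) {y f : Y} (hy : y ∈ E) (hf : f ∈ E) (hyB : y ∉ B) (hfy : ∀ b ∈ B, ∀ m : ℤ, f ≠ b * y ^ m)
    (hE : ∀ x ∈ E, ∃ b ∈ B, ∃ m n : ℤ, x = b * y ^ m * f ^ n) : B.relIndex E = p ^ 2 := by
  obtain ⟨h1, h2⟩ := relIndex_sup_zpowers (hEp y hy) (fun b hb => hEc y hy b (hB hb)) hyB
  have hle : B ⊔ Subgroup.zpowers y ≤ E := sup_le hB (Subgroup.zpowers_le.2 hy)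
  have hfn : f ∉ B ⊔ Subgroup.zpowers y := by
    intro hf'
    obtain ⟨b, hb, m, h3⟩ := h2 f hf'
    exact hfy b hb m h3
  obtain ⟨h3, -⟩ := relIndex_sup_zpowers (hEp f hf) (fun b hb => hEc f hf b (hle hb)) hfn
  have h4 : B ⊔ Subgroup.zpowers y ⊔ Subgroup.zpowers f = E := by
    refine le_antisymm (sup_le hle (Subgroup.zpowers_le.2 hf)) ?_
    intro x hx
    obtain ⟨b, hb, m, n, rfl⟩ := hE x hx
    refine mul_mem ((le_sup_left : _ ≤ B ⊔ Subgroup.zpowers y ⊔ Subgroup.zpowers f) (mul_mem ?_ ?_)) ?_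
    · exact (le_sup_left : B ≤ B ⊔ Subgroup.zpowers y) hb
    · exact (le_sup_right : Subgroup.zpowers y ≤ B ⊔ Subgroup.zpowers y) (zpow_mem (Subgroup.mem_zpowers y) m)
    · exact (le_sup_right : Subgroup.zpowers f ≤ B ⊔ Subgroup.zpowers y ⊔ Subgroup.zpowers f)
        (zpow_mem (Subgroup.mem_zpowers f) n)
  rw [h4] at h3
  have h5 := Subgroup.relIndex_mul_relIndex B (B ⊔ Subgroup.zpowers y) E le_sup_left hle
  rw [← h5, h1, h3, pow_two]

/-- a cyclic extension: index `p` -/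
theorem relIndex_one {E B : Subgroup Y} (hEp : ∀ a ∈ E, a ^ p = 1) (hEc : ∀ a ∈ E, ∀ b ∈ E, a * b = b * a)
    (hB : B ≤ E) {f : Y} (hf : f ∈ E) (hfB : f ∉ B)
    (hE : ∀ x ∈ E, ∃ b ∈ B, ∃ n : ℤ, x = b * f ^ n) : B.relIndex E = p := by
  obtain ⟨h1, h2⟩ := relIndex_sup_zpowers (hEp f hf) (fun b hb => hEc f hf b (hB hb)) hfB
  have h4 : B ⊔ Subgroup.zpowers f = E := by
    refine le_antisymm (sup_le hB (Subgroup.zpowers_le.2 hf)) ?_
    intro x hx
    obtain ⟨b, hb, n, rfl⟩ := hE x hx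
    exact mul_mem ((le_sup_left : B ≤ B ⊔ Subgroup.zpowers f) hb)
      ((le_sup_right : Subgroup.zpowers f ≤ B ⊔ Subgroup.zpowers f) (zpow_mem (Subgroup.mem_zpowers f) n))
  rwa [h4] at h1

end Plane

section Orb

variable {p : ℕ} [hp : Fact p.Prime] [NeZero p] {k : Type u} [Field k] [IsAlgClosed k] {r e : ℕ} [Fact r.Prime]
  [CharP k r] {Y : Type*} [Group Y]

theorem comm_stm {n : ℕ} [NeZero n] (hn : 3 ≤ n) {ψ : Matrix.SpecialLinearGroup (Fin n) k →* Y} (hψ : ∃ g, ψ g ≠ 1)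
    {σ : Y →* Y} {D : GL (Fin n) k} {uni : Bool} (hσ : ∀ g, σ (ψ g) = ψ (stm r e D uni g)) {y : Y} (hy : σ y = y)
    {x : GL (Fin n) k} (hx : ∀ g, y * ψ g * y⁻¹ = ψ (cj x g)) (g : Matrix.SpecialLinearGroup (Fin n) k) :
    stm r e D uni (cj x g) = cj x (stm r e D uni g) := by
  refine eq_of_psi hn hψ (f := (stm r e D uni).comp (cj x).toMonoidHom) (g := (cj x).toMonoidHom.comp (stm r e D uni))
    (fun g => ?_) g
  show ψ (stm r e D uni (cj x g)) = ψ (cj x (stm r e D uni g))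
  rw [← hσ, ← hx, map_mul, map_mul, map_inv, hy, hσ, hx]

theorem hpow {n : ℕ} [NeZero n] {ψ : Matrix.SpecialLinearGroup (Fin n) k →* Y} {y : Y} {x : GL (Fin n) k}
    (hx : ∀ g, y * ψ g * y⁻¹ = ψ (cj x g)) (i : ℕ) :
    ∀ g, y ^ i * ψ g * (y ^ i)⁻¹ = ψ (cj (x ^ i) g) := by
  induction i with
  | zero => intro g; rw [pow_zero, pow_zero, map_one, MulAut.one_apply]; group
  | succ i ih =>
    intro g
    rw [pow_succ' x, map_mul, MulAut.mul_apply, ← hx, ← ih, pow_succ']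
    group

theorem scalar_of_psi {n : ℕ} [NeZero n] (hn : 3 ≤ n) {ψ : Matrix.SpecialLinearGroup (Fin n) k →* Y}
    (hψ : ∃ g, ψ g ≠ 1) {x : GL (Fin n) k} (hx : ∀ g, ψ (cj x g) = ψ g) : x ∈ scalars (Fin n) k := by
  refine scalar_of_cj fun g => ?_
  exact eq_of_psi hn hψ (f := (cj x).toMonoidHom) (g := MonoidHom.id _) hx g

theorem exists_zeta {ψ : Matrix.SpecialLinearGroup (Fin p) k →* Y} (hn : 3 ≤ p) (hψ : ∃ g, ψ g ≠ 1) {ya yb : Y}
    (hcom : ya * yb = yb * ya) (hpa : ya ^ p = 1)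
    {a b : GL (Fin p) k} (ha : ∀ g, ya * ψ g * ya⁻¹ = ψ (cj a g)) (hb : ∀ g, yb * ψ g * yb⁻¹ = ψ (cj b g))
    (hab : a * b ≠ b * a) : ∃ ζ : kˣ, ζ ≠ 1 ∧ ζ ^ p = 1 ∧ a * b = sc p ζ * (b * a) := by
  have hc : a * b * (b * a)⁻¹ ∈ scalars (Fin p) k := by
    refine scalar_of_psi hn hψ fun g => ?_
    have h3 : ∀ {y : Y} {x : GL (Fin p) k}, (∀ g, y * ψ g * y⁻¹ = ψ (cj x g)) → ∀ g, y⁻¹ * ψ g * y = ψ (cj x⁻¹ g) := by
      intro y x hx g
      have h4 := hx (cj x⁻¹ g)
      rw [← MulAut.mul_apply, ← map_mul, mul_inv_cancel, map_one, MulAut.one_apply] at h4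
      rw [← h4]
      group
    rw [mul_inv_rev, map_mul, map_mul, map_mul, MulAut.mul_apply, MulAut.mul_apply, MulAut.mul_apply, ← ha, ← hb, ← h3 ha,
      ← h3 hb]
    calc ya * (yb * (ya⁻¹ * (yb⁻¹ * ψ g * yb) * ya) * yb⁻¹) * ya⁻¹ =
          (ya * yb) * (yb * ya)⁻¹ * ψ g * ((ya * yb) * (yb * ya)⁻¹)⁻¹ := by group
      _ = ψ g := by rw [hcom]; group
  obtain ⟨ζ, hζ⟩ := mem_scalars_iff_sc.1 hc
  have hab' : a * b = sc p ζ * (b * a) := by rw [← hζ, inv_mul_cancel_right]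
  have hap : a ^ p ∈ scalars (Fin p) k := scalar_of_psi hn hψ fun g => by
    rw [← hpow ha, hpa]; group
  refine ⟨ζ, ?_, ?_, hab'⟩
  · rintro rfl
    exact hab (by rw [hab', sc_one, one_mul])
  · obtain ⟨z, hz⟩ := mem_scalars_iff_sc.1 hap
    have h3 : ∀ m : ℕ, a ^ m * b = sc p (ζ ^ m) * (b * a ^ m) := by
      intro m
      induction m with
      | zero => simp [sc_one]
      | succ m ih =>
        calc a ^ (m + 1) * b = a * (a ^ m * b) := by rw [pow_succ']; group
          _ = (a * sc p (ζ ^ m)) * (b * a ^ m) := by rw [ih]; group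
          _ = sc p (ζ ^ m) * ((a * b) * a ^ m) := by rw [← sc_comm]; group
          _ = sc p (ζ ^ m) * sc p ζ * (b * a ^ (m + 1)) := by rw [hab', pow_succ']; group
          _ = _ := by rw [← sc_mul, ← pow_succ]
    have h4 := h3 p
    rw [hz, sc_comm z b] at h4
    have h5 : sc p (ζ ^ p) = 1 := mul_eq_right.1 h4.symm
    have h6 : (sc p (ζ ^ p) : Matrix (Fin p) (Fin p) k) 0 0 = ((1 : GL (Fin p) k) : Matrix (Fin p) (Fin p) k) 0 0 := by
      rw [h5]
    rw [sc_coe, Units.val_one, Matrix.smul_apply, Matrix.one_apply_eq, smul_eq_mul, mul_one] at h6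
    exact Units.ext h6

variable {E B : Subgroup Y}

/-- **The kernel row with a subgroup of `SL_p(k)`.** -/
theorem orb_sl_of (h2 : p ≠ 2) (L : LinFacts.{u} p) (U : UniFacts.{u} p) (h7 : 7 ≤ p ∨ r ≠ 2) (he : 0 < e)
    (hEp : ∀ a ∈ E, a ^ p = 1) (hEc : ∀ a ∈ E, ∀ b ∈ E, a * b = b * a)
    (hB : B ≤ E) (hBi : B.relIndex E = p ^ 2)
    {ψ : Matrix.SpecialLinearGroup (Fin p) k →* Y} (hψ : ∃ g, ψ g ≠ 1) (hBψ : ∀ x ∈ B, ∀ g, ψ g * x = x * ψ g)
    {D : GL (Fin p) k} {uni : Bool} {ya yb : Y} (hya : ya ∈ E) (hyb : yb ∈ E)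
    {a b : GL (Fin p) k} (ha : ∀ g, ya * ψ g * ya⁻¹ = ψ (cj a g)) (hb : ∀ g, yb * ψ g * yb⁻¹ = ψ (cj b g))
    (hab : a * b ≠ b * a) (hca : ∀ g, stm r e D uni (cj a g) = cj a (stm r e D uni g))
    (hcb : ∀ g, stm r e D uni (cj b g) = cj b (stm r e D uni g))
    {M : Subgroup (Matrix.SpecialLinearGroup (Fin p) k)}
    (hM : ∀ F ≤ E, F.relIndex E = p → ∀ g, stm r e D uni g = g → (∀ x ∈ F, ψ g * x = x * ψ g) → g ∈ M)
    {g : Matrix.SpecialLinearGroup (Fin p) k} (hg : stm r e D uni g = g) : g ∈ M := by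
  have hn : 3 ≤ p := by have := hp.1.two_le; omega
  have hcom := hEc ya hya yb hyb
  obtain ⟨l, hl⟩ := stG_eq_sc hca
  obtain ⟨m, hm⟩ := stG_eq_sc hcb
  obtain ⟨ζ, hζ1, hζp, hab'⟩ := exists_zeta hn hψ hcom (hEp ya hya) ha hb hab
  have hap : a ^ p ∈ scalars (Fin p) k := scalar_of_psi hn hψ fun g => by
    rw [← hpow ha, hEp ya hya]; group
  have hbp : b ^ p ∈ scalars (Fin p) k := scalar_of_psi hn hψ fun g => by
    rw [← hpow hb, hEp yb hyb]; group
  have hstd : Std r e D uni (stG r e D uni) := by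
    cases uni
    · exact ⟨fun _ _ => rfl, fun h => by cases h⟩
    · exact ⟨fun h => (by cases h), fun _ _ => rfl⟩
  have hfin : toGL g ∈ M.map toGL := by
    refine gen_alg_of h2 L U h7 he hstd hζ1 hab' hap hbp hl hm (M := M.map toGL) ?_ (toGL_mem g) ?_
    · intro f hf hfs x hx hxτ hxf
      obtain ⟨i, j, z, rfl⟩ := mem_closure_pair hab' hap hbp hf
      set x' : Matrix.SpecialLinearGroup (Fin p) k := ⟨x.1, mem_SL_iff.1 hx⟩ with hx'
      have hxx : toGL x' = x := Units.ext rfl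
      refine ⟨x', ?_, hxx⟩
      have hfix : stm r e D uni x' = x' := toGL_inj' (by rw [toGL_stm, hxx, hxτ])
      have h5 : cj (a ^ i * b ^ j) x' = x' := by
        apply toGL_inj'
        rw [toGL_cj, hxx, mul_inv_eq_iff_eq_mul]
        have h6 : sc p z * (x * (a ^ i * b ^ j)) = sc p z * (a ^ i * b ^ j * x) := by
          rw [← mul_assoc, sc_comm z x, mul_assoc, hxf, mul_assoc]
        exact (mul_left_cancel h6).symm
      have h6 : ya ^ i * yb ^ j * ψ x' * (ya ^ i * yb ^ j)⁻¹ = ψ x' := by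
        conv_rhs => rw [← h5]
        rw [map_mul, MulAut.mul_apply, ← hpow ha, ← hpow hb]
        group
      have hf' : ya ^ i * yb ^ j ∈ E := mul_mem (pow_mem hya i) (pow_mem hyb j)
      have hfB : ya ^ i * yb ^ j ∉ B := by
        intro hfB
        apply hfs
        refine (scalars (Fin p) k).mul_mem (sc_mem z) (scalar_of_psi hn hψ fun g => ?_)
        rw [map_mul, MulAut.mul_apply, ← hpow ha, ← hpow hb]
        have h3 := hBψ _ hfB g
        calc ya ^ i * (yb ^ j * ψ g * (yb ^ j)⁻¹) * (ya ^ i)⁻¹ = (ya ^ i * yb ^ j) * ψ g * (ya ^ i * yb ^ j)⁻¹ := by group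
          _ = ψ g := by rw [← h3]; group
      obtain ⟨F, hFE, hFi, -, -, hFm⟩ := exists_plane hEp hEc hB hBi hf' hfB
      refine hM F hFE hFi x' hfix fun y hy => ?_
      obtain ⟨b', hb', m', rfl⟩ := hFm y hy
      have h3 : Commute (ψ x') b' := hBψ b' hb' x'
      have h4 : Commute (ψ x') (ya ^ i * yb ^ j) := (mul_inv_eq_iff_eq_mul.1 h6).symm
      exact (h3.mul_right (h4.zpow_right m')).eq
    · rw [← toGL_stm, hg]
  obtain ⟨x, hx, hxg⟩ := hfin
  rw [← toGL_inj' hxg]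
  exact hx

/-- `r`-elements of `ψ (SL_p(k))` fixed by `σ` are images of fixed points of `stm` (`p ≠ r`). -/
theorem exists_fixed (hn : 3 ≤ p) (hpr : p ≠ r) {ψ : Matrix.SpecialLinearGroup (Fin p) k →* Y} (hψ : ∃ g, ψ g ≠ 1)
    {σ : Y →* Y} {D : GL (Fin p) k} {uni : Bool} (hσ : ∀ g, σ (ψ g) = ψ (stm r e D uni g))
    {g : Matrix.SpecialLinearGroup (Fin p) k} (hg : σ (ψ g) = ψ g) {m : ℕ} (hm : ψ g ^ r ^ m = 1) :
    ∃ x, stm r e D uni x = x ∧ ψ x = ψ g := by
  have hcop : Nat.Coprime (r ^ m) p :=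
    Nat.Coprime.pow_left _ ((Nat.coprime_primes Fact.out hp.1).2 (Ne.symm hpr))
  obtain ⟨N, hN1, hN2⟩ := Nat.chineseRemainder hcop 1 0
  have hN3 : p ∣ N := (Nat.modEq_zero_iff_dvd).1 hN2
  refine ⟨g ^ N, ?_, ?_⟩
  · obtain ⟨z, hz⟩ : ∃ z, stm r e D uni g = g * z := ⟨g⁻¹ * stm r e D uni g, by group⟩
    have hzc : z ∈ Subgroup.center (Matrix.SpecialLinearGroup (Fin p) k) := by
      refine ker_le_center hn hψ ?_
      have h4 : ψ (stm r e D uni g) = ψ g := by rw [← hσ, hg]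
      rw [hz, map_mul] at h4
      exact mul_eq_left.1 h4
    obtain ⟨N', rfl⟩ := hN3
    have hgz : Commute g z := (Subgroup.mem_center_iff.1 hzc g)
    rw [map_pow, hz, hgz.mul_pow, pow_mul z, center_pow hzc, one_pow, mul_one]
  · rw [map_pow]
    have h3 : ψ g ^ N = ψ g ^ 1 := by
      rw [pow_eq_pow_iff_modEq]
      exact hN1.of_dvd (orderOf_dvd_of_pow_eq_one hm)
    rw [h3, pow_one]

end Orb

end Cfsg.Agent.H321.Mono
end

-- part: H321/Mono/Cyc
section
/-!
# S2187, X4: frames of type `A_{p-1}` shifted by `E`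

* `ShAct ψ m x` : `x` maps the root group `(i, j)` of `ψ (SL_n(k))` onto the root group `(i + m, j + m)`;
* `cyc_sl` : `E` elementary abelian, all `x ∈ E` act as shifts, `f ∈ E` as the shift by `1`: a subgroup `M ≤ SL_p(k)` which
  contains the fixed points `g` of `stm` such that `ψ g` commutes with a hyperplane of `E` contains all fixed points;
* `mem_Orr` : fixed points of `stm` are products of `r`-elements fixed by `σ`;
* `cyc_mem` : the form for `r`-elements in a subgroup `H` of `Y`.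
-/

set_option autoImplicit false
set_option linter.unusedSectionVars false

universe u

namespace Cfsg.Agent.H321.Mono

open Cfsg Cfsg.Geo Cfsg.Agent.H321.Ker
open scoped MatrixGroups Matrix commutatorElement
open Matrix.SpecialLinearGroup (toGL transvection)

section Sh

variable {n : ℕ} [NeZero n] {k : Type u} [Field k] {Y : Type*} [Group Y]

/-- `x` shifts the frame by `m` -/
def ShAct (ψ : Matrix.SpecialLinearGroup (Fin n) k →* Y) (m : Fin n) (x : Y) : Prop :=
  ∃ c : Fin n → Fin n → k, (∀ i j, i ≠ j → c i j ≠ 0) ∧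
    ∀ (i j : Fin n) (hij : i ≠ j) (i' j' : Fin n) (h' : i' ≠ j'), i' = i + m → j' = j + m → ∀ t : k,
      x * ψ (transvection hij t) * x⁻¹ = ψ (transvection h' (c i j * t))

variable {ψ : Matrix.SpecialLinearGroup (Fin n) k →* Y}

theorem ShAct.of_forall {m : Fin n} {x : Y} {c : Fin n → Fin n → k} (h0 : ∀ i j, i ≠ j → c i j ≠ 0)
    (h : ∀ (i j : Fin n) (hij : i ≠ j) (t : k),
      x * ψ (transvection hij t) * x⁻¹ = ψ (transvection (add_left_injective m |>.ne hij) (c i j * t))) :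
    ShAct ψ m x := by
  refine ⟨c, h0, fun i j hij i' j' h' hi hj t => ?_⟩
  subst hi hj
  exact h i j hij t

theorem ShAct.mul {m m' : Fin n} {x y : Y} (hx : ShAct ψ m x) (hy : ShAct ψ m' y) : ShAct ψ (m' + m) (x * y) := by
  obtain ⟨c, hc0, hc⟩ := hx
  obtain ⟨d, hd0, hd⟩ := hy
  refine ⟨fun i j => c (i + m') (j + m') * d i j, fun i j hij => mul_ne_zero
    (hc0 _ _ (add_left_injective m' |>.ne hij)) (hd0 i j hij), fun i j hij i' j' h' hi hj t => ?_⟩
  have h1 := hd i j hij _ _ (add_left_injective m' |>.ne hij) rfl rfl t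
  have h2 := hc _ _ (add_left_injective m' |>.ne hij) i' j' h' (by rw [hi, add_assoc]) (by rw [hj, add_assoc]) (d i j * t)
  have h3 : x * y * ψ (transvection hij t) * (x * y)⁻¹ = x * (y * ψ (transvection hij t) * y⁻¹) * x⁻¹ := by group
  rw [h3, h1, h2, mul_assoc]

theorem ShAct.inv {m : Fin n} {x : Y} (hx : ShAct ψ m x) : ShAct ψ (-m) x⁻¹ := by
  obtain ⟨c, hc0, hc⟩ := hx
  refine ⟨fun i j => (c (i + -m) (j + -m))⁻¹, fun i j hij => inv_ne_zero
    (hc0 _ _ (add_left_injective (-m) |>.ne hij)), fun i j hij i' j' h' hi hj t => ?_⟩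
  have h1 := hc i' j' h' i j hij (by rw [hi, neg_add_cancel_right]) (by rw [hj, neg_add_cancel_right])
    ((c (i + -m) (j + -m))⁻¹ * t)
  rw [← hi, ← hj, mul_inv_cancel_left₀ (hc0 i' j' h')] at h1
  show _ = ψ (transvection h' ((c (i + -m) (j + -m))⁻¹ * t))
  rw [← h1, ← hi, ← hj]
  group

theorem ShAct.one : ShAct ψ 0 1 := by
  refine ⟨fun _ _ => 1, fun _ _ _ => one_ne_zero, fun i j hij i' j' h' hi hj t => ?_⟩
  rw [add_zero] at hi hj
  subst hi hj
  rw [one_mul, inv_one, mul_one, one_mul]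

theorem ShAct.pow {m : Fin n} {x : Y} (hx : ShAct ψ m x) (i : ℕ) : ShAct ψ (i • m) (x ^ i) := by
  induction i with
  | zero => rw [zero_smul, pow_zero]; exact ShAct.one
  | succ i ih =>
    rw [pow_succ, succ_nsmul']
    exact ih.mul hx

theorem ShAct.zpow_zero {x : Y} (hx : ShAct ψ 0 x) (i : ℤ) : ShAct ψ 0 (x ^ i) := by
  cases i with
  | ofNat i =>
    have h1 := hx.pow i
    rw [smul_zero] at h1
    rw [Int.ofNat_eq_natCast, zpow_natCast]
    exact h1
  | negSucc i =>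
    have h1 := (hx.pow (i + 1)).inv
    rw [smul_zero, neg_zero] at h1
    rw [zpow_negSucc]
    exact h1

/-- elements commuting with `ψ (SL_n(k))` -/
theorem ShAct.of_comm {x : Y} (h : ∀ g, ψ g * x = x * ψ g) : ShAct ψ 0 x := by
  refine ⟨fun _ _ => 1, fun _ _ _ => one_ne_zero, fun i j hij i' j' h' hi hj t => ?_⟩
  rw [add_zero] at hi hj
  subst hi hj
  rw [one_mul, ← h, mul_inv_cancel_right]

theorem ShAct.exists_mono (hn : 3 ≤ n) {r : ℕ} [Fact r.Prime] [CharP k r]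
    (hinj : ∀ (i j : Fin n) (hij : i ≠ j), Function.Injective fun t : k => ψ (transvection hij t))
    {m : Fin n} {x : Y} (hx : ShAct ψ m x) :
    ∃ d : Fin n → kˣ, ∀ g, x * ψ g * x⁻¹ = ψ (cj (mono (Equiv.addRight m) d) g) := by
  obtain ⟨c, hc0, hc⟩ := hx
  obtain ⟨d, -, hd⟩ := exists_lin (r := r) (e := 0) (φ := (MulAut.conj x).toMonoidHom)
    (π := Equiv.addRight m) (c := c) hn hinj hc0 (fun i j hij t => by
      show x * ψ (transvection hij t) * x⁻¹ = _
      rw [hc i j hij _ _ (add_left_injective m |>.ne hij) rfl rfl t, pow_zero, pow_one]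
      rfl)
  refine ⟨d, fun g => ?_⟩
  have hst : ∀ (x : GL (Fin n) k) g, stm r 0 x false g = cj x g := by
    intro x g
    apply toGL_inj'
    rw [toGL_stm, stG_false, toGL_cj]
    have : fr r 0 (toGL g) = toGL g := by
      apply Units.ext
      ext i j
      rw [fr_apply, pow_zero, pow_one]
    rw [this]
  rw [← hst]
  exact hd g

end Sh

section Cyc

variable {p : ℕ} [hp : Fact p.Prime] [NeZero p] {k : Type u} [Field k] [IsAlgClosed k] {r e : ℕ} [Fact r.Prime]
  [CharP k r] {Y : Type*} [Group Y] {ψ : Matrix.SpecialLinearGroup (Fin p) k →* Y}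

theorem zero_ne_one_fin (hn : 3 ≤ p) : (0 : Fin p) ≠ 1 := by
  intro h
  have := congrArg Fin.val h
  rw [Fin.val_zero, Fin.val_one'] at this
  rw [Nat.mod_eq_of_lt (by omega)] at this
  omega

theorem nsmul_fin (hn : 3 ≤ p) (i : ℕ) (h : i < p) : i • (1 : Fin p) = ⟨i, h⟩ := by
  induction i with
  | zero =>
    rw [zero_smul]
    exact Fin.ext (Fin.val_zero p)
  | succ i ih =>
    rw [succ_nsmul, ih (by omega)]
    apply Fin.ext
    rw [Fin.val_add, Fin.val_one', Nat.mod_eq_of_lt (by omega : 1 < p)]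
    exact Nat.mod_eq_of_lt h

theorem exists_ne_one (hn : 3 ≤ p)
    (hinj : ∀ (i j : Fin p) (hij : i ≠ j), Function.Injective fun t : k => ψ (transvection hij t)) : ∃ g, ψ g ≠ 1 := by
  refine ⟨transvection (zero_ne_one_fin hn) 1, fun h => ?_⟩
  have h3 : ψ (transvection (zero_ne_one_fin hn) (1 : k)) = ψ (transvection (zero_ne_one_fin hn) (0 : k)) := by
    have h4 : transvection (zero_ne_one_fin hn) (0 : k) = 1 :=
      toGL_inj' (Units.ext (by rw [toGL_transvection]; simp))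
    rw [h, h4, map_one]
  exact one_ne_zero (hinj 0 1 (zero_ne_one_fin hn) h3)

/-- the commutator of two commuting elements -/
theorem exists_zeta' (hn : 3 ≤ p) (hψ : ∃ g, ψ g ≠ 1) {ya yb : Y}
    (hcom : ya * yb = yb * ya) (hpa : ya ^ p = 1)
    {a b : GL (Fin p) k} (ha : ∀ g, ya * ψ g * ya⁻¹ = ψ (cj a g)) (hb : ∀ g, yb * ψ g * yb⁻¹ = ψ (cj b g)) :
    ∃ ζ : kˣ, ζ ^ p = 1 ∧ a * b = sc p ζ * (b * a) := by
  by_cases hab : a * b = b * a
  · exact ⟨1, one_pow _, by rw [sc_one, one_mul, hab]⟩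
  · obtain ⟨ζ, -, h1, h2⟩ := exists_zeta hn hψ hcom hpa ha hb hab
    exact ⟨ζ, h1, h2⟩

theorem ShAct.absurd (hn : 3 ≤ p) (r : ℕ) [Fact r.Prime] [CharP k r]
    (hinj : ∀ (i j : Fin p) (hij : i ≠ j), Function.Injective fun t : k => ψ (transvection hij t)) {x : Y}
    (h0 : ShAct ψ 0 x) (h1 : ShAct ψ 1 x) : False := by
  have hψ := exists_ne_one hn hinj
  obtain ⟨d, hd⟩ := h0.exists_mono (r := r) hn hinj
  obtain ⟨d', hd'⟩ := h1.exists_mono (r := r) hn hinj
  have h2 : (mono (Equiv.addRight 1) d')⁻¹ * mono (Equiv.addRight 0) d ∈ scalars (Fin p) k := by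
    refine scalar_of_psi hn hψ fun g => ?_
    have h3 : ψ (cj (mono (Equiv.addRight 0) d) g) = ψ (cj (mono (Equiv.addRight 1) d') g) := by rw [← hd, hd']
    have h4 : cj (mono (Equiv.addRight 1) d') (cj ((mono (Equiv.addRight 1) d')⁻¹ * mono (Equiv.addRight 0) d) g) =
        cj (mono (Equiv.addRight 0) d) g := by
      rw [← MulAut.mul_apply, ← map_mul, mul_inv_cancel_left]
    rw [← h4, ← hd'] at h3
    rw [← hd' g] at h3
    exact mul_left_cancel (mul_right_cancel h3)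
  obtain ⟨z, hz⟩ := mem_scalars_iff_sc.1 h2
  have h3 : mono (Equiv.addRight 0) d = mono (Equiv.addRight 1) d' * sc p z := by
    rw [← hz, mul_inv_cancel_left]
  have h4 : (mono (Equiv.addRight 0) d : Matrix (Fin p) (Fin p) k) 0 0 =
      ((mono (Equiv.addRight 1) d' * sc p z : GL (Fin p) k) : Matrix (Fin p) (Fin p) k) 0 0 := by rw [h3]
  rw [Units.val_mul, sc_coe, Matrix.mul_smul, mul_one, Matrix.smul_apply, mono_coe, mono_coe, if_pos (by simp),
    if_neg, smul_zero] at h4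
  · exact (d 0).ne_zero h4
  · simp only [Equiv.coe_addRight, zero_add]
    exact zero_ne_one_fin hn

variable {E : Subgroup Y}

/-- **Frames shifted by `E`.** -/
theorem cyc_sl (h2 : p ≠ 2) (L : LinFacts.{u} p) (U : UniFacts.{u} p) (h7 : 7 ≤ p ∨ r ≠ 2) (he : 0 < e)
    (hEp : ∀ a ∈ E, a ^ p = 1) (hEc : ∀ a ∈ E, ∀ b ∈ E, a * b = b * a)
    (hinj : ∀ (i j : Fin p) (hij : i ≠ j), Function.Injective fun t : k => ψ (transvection hij t))
    {σ : Y →* Y} (hEσ : ∀ x ∈ E, σ x = x) {D : GL (Fin p) k} {uni : Bool}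
    (hσ : ∀ g, σ (ψ g) = ψ (stm r e D uni g)) {f : Y} (hf : f ∈ E) (hfs : ShAct ψ 1 f)
    (hE : ∀ x ∈ E, ∃ m, ShAct ψ m x)
    {M : Subgroup (Matrix.SpecialLinearGroup (Fin p) k)}
    (hM : ∀ F ≤ E, F.relIndex E = p → ∀ g, stm r e D uni g = g → (∀ x ∈ F, ψ g * x = x * ψ g) → g ∈ M)
    {g : Matrix.SpecialLinearGroup (Fin p) k} (hg : stm r e D uni g = g) : g ∈ M := by
  have hn : 3 ≤ p := by have := hp.1.two_le; omega
  have hψ := exists_ne_one hn hinj
  let B : Subgroup Y := E ⊓ Subgroup.centralizer (ψ.range : Set Y)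
  have hBE : B ≤ E := inf_le_left
  have hmemB : ∀ x, x ∈ B ↔ x ∈ E ∧ ∀ g, ψ g * x = x * ψ g := by
    intro x
    show x ∈ E ∧ x ∈ Subgroup.centralizer (ψ.range : Set Y) ↔ _
    rw [Subgroup.mem_centralizer_iff]
    constructor
    · rintro ⟨h1, h3⟩
      exact ⟨h1, fun g => h3 _ ⟨g, rfl⟩⟩
    · rintro ⟨h1, h3⟩
      refine ⟨h1, ?_⟩
      rintro _ ⟨g, rfl⟩
      exact h3 g
  have hBψ : ∀ x ∈ B, ∀ g, ψ g * x = x * ψ g := fun x hx => ((hmemB x).1 hx).2
  have hB0 : ∀ x ∈ B, ShAct ψ 0 x := fun x hx => ShAct.of_comm (hBψ x hx)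
  -- every element of `E` is a diagonal one times a power of `f`
  have hdec : ∀ x ∈ E, ∃ x' ∈ E, ShAct ψ 0 x' ∧ ∃ n : ℤ, x = x' * f ^ n := by
    intro x hx
    obtain ⟨m, hm⟩ := hE x hx
    have h1 : m.val • (1 : Fin p) = m := nsmul_fin hn m.val m.isLt
    have h3 : ShAct ψ 0 (x * (f ^ m.val)⁻¹) := by
      have h4 := hm.mul (hfs.pow m.val).inv
      rwa [h1, neg_add_cancel] at h4
    refine ⟨x * (f ^ m.val)⁻¹, mul_mem hx (inv_mem (pow_mem hf _)), h3, m.val, ?_⟩
    rw [zpow_natCast, inv_mul_cancel_right]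
  by_cases hA : ∀ x ∈ E, ShAct ψ 0 x → x ∈ B
  · -- the image of `E` is cyclic
    have hfB : f ∉ B := fun hfB => ShAct.absurd hn r hinj (hB0 f hfB) hfs
    have h1 : B.relIndex E = p := by
      refine relIndex_one hEp hEc hBE hf hfB fun x hx => ?_
      obtain ⟨x', hx', h3, n, h4⟩ := hdec x hx
      exact ⟨x', hA x' hx' h3, n, h4⟩
    exact hM B hBE h1 g hg fun x hx => hBψ x hx g
  · push Not at hA
    obtain ⟨y, hy, hy0, hyB⟩ := hA
    have hadd0 : Equiv.addRight (0 : Fin p) = Equiv.refl (Fin p) := by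
      ext i
      simp
    obtain ⟨dy, hdy⟩ := hy0.exists_mono (r := r) hn hinj
    obtain ⟨df, hdf⟩ := hfs.exists_mono (r := r) hn hinj
    rw [hadd0] at hdy
    set a := mono (Equiv.refl (Fin p)) dy with ha
    set b := mono (Equiv.addRight (1 : Fin p)) df with hb
    -- diagonal and commuting with `b`: in `B`
    have hdiag : ∀ (x : Y) (d : Fin p → kˣ), x ∈ E → (∀ g, x * ψ g * x⁻¹ = ψ (cj (mono (Equiv.refl (Fin p)) d) g)) →
        mono (Equiv.refl (Fin p)) d * b = b * mono (Equiv.refl (Fin p)) d → x ∈ B := by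
      intro x d hx hd hc
      rw [hmemB]
      refine ⟨hx, fun g => ?_⟩
      have h3 : mono (Equiv.refl (Fin p)) d = sc p (d 0) := by
        apply Units.ext
        ext i j
        rw [mono_coe, sc_coe, Matrix.smul_apply, Matrix.one_apply, Equiv.refl_apply, diag_comm_cycle hc j]
        by_cases hij : i = j <;> simp [hij]
      have h4 : cj (mono (Equiv.refl (Fin p)) d) g = g := by
        apply toGL_inj'
        rw [toGL_cj, h3, sc_comm, mul_inv_cancel_right]
      have h5 := hd g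
      rw [h4] at h5
      exact (mul_inv_eq_iff_eq_mul.1 h5).symm
    have hab : a * b ≠ b * a := fun hc => hyB (hdiag y dy hy hdy hc)
    obtain ⟨ζ, hζ1, hζp, hab'⟩ := exists_zeta hn hψ (hEc y hy f hf) (hEp y hy) hdy hdf hab
    have hord : orderOf ζ = p := orderOf_eq_prime hζp hζ1
    have hpow : ∀ m : ℕ, a ^ m * b = sc p (ζ ^ m) * (b * a ^ m) := by
      intro m
      induction m with
      | zero => simp [sc_one]
      | succ m ih =>
        calc a ^ (m + 1) * b = a * (a ^ m * b) := by rw [pow_succ']; group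
          _ = (a * sc p (ζ ^ m)) * (b * a ^ m) := by rw [ih]; group
          _ = sc p (ζ ^ m) * ((a * b) * a ^ m) := by rw [← sc_comm]; group
          _ = sc p (ζ ^ m) * sc p ζ * (b * a ^ (m + 1)) := by rw [hab', pow_succ']; group
          _ = _ := by rw [← sc_mul, ← pow_succ]
    have hzeta : ∀ z : kˣ, z ^ p = 1 → ∃ m : ℕ, z = ζ ^ m := by
      intro z hz
      have hprim : IsPrimitiveRoot ζ p := hord ▸ IsPrimitiveRoot.orderOf ζ
      obtain ⟨m, -, hm⟩ := hprim.eq_pow_of_mem_rootsOfUnity (k := p) (ξ := z) (by rw [mem_rootsOfUnity]; exact hz)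
      exact ⟨m, hm.symm⟩
    -- every diagonal element of `E` is a power of `y` modulo `B`
    have hdec2 : ∀ x ∈ E, ShAct ψ 0 x → ∃ b' ∈ B, ∃ m : ℤ, x = b' * y ^ m := by
      intro x hx hx0
      obtain ⟨dx, hdx⟩ := hx0.exists_mono (r := r) hn hinj
      rw [hadd0] at hdx
      obtain ⟨z, hzp, hz⟩ := exists_zeta' hn hψ (hEc x hx f hf) (hEp x hx) hdx hdf
      obtain ⟨m, rfl⟩ := hzeta z hzp
      have hx2 : x * (y ^ m)⁻¹ ∈ E := mul_mem hx (inv_mem (pow_mem hy _))
      have hx3 : ShAct ψ 0 (x * (y ^ m)⁻¹) := by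
        have h4 := hx0.mul (hy0.pow m).inv
        rwa [smul_zero, neg_zero, add_zero] at h4
      obtain ⟨d, hd⟩ := hx3.exists_mono (r := r) hn hinj
      rw [hadd0] at hd
      -- compare
      have h4 : (mono (Equiv.refl (Fin p)) dx)⁻¹ * (mono (Equiv.refl (Fin p)) d * a ^ m) ∈ scalars (Fin p) k := by
        refine scalar_of_psi hn hψ fun g => ?_
        have h5 : ψ (cj (mono (Equiv.refl (Fin p)) d * a ^ m) g) = ψ (cj (mono (Equiv.refl (Fin p)) dx) g) := by
          rw [map_mul, MulAut.mul_apply, ← hd, ← hpow' hdy, ← hdx]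
          group
        have h6 : cj (mono (Equiv.refl (Fin p)) dx)
            (cj ((mono (Equiv.refl (Fin p)) dx)⁻¹ * (mono (Equiv.refl (Fin p)) d * a ^ m)) g) =
            cj (mono (Equiv.refl (Fin p)) d * a ^ m) g := by
          rw [← MulAut.mul_apply, ← map_mul, mul_inv_cancel_left]
        rw [← h6, ← hdx, ← hdx] at h5
        exact mul_left_cancel (mul_right_cancel h5)
      obtain ⟨s, hs⟩ := mem_scalars_iff_sc.1 h4
      have h5 : mono (Equiv.refl (Fin p)) d = mono (Equiv.refl (Fin p)) dx * sc p s * (a ^ m)⁻¹ := by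
        rw [← hs]; group
      have h6 : mono (Equiv.refl (Fin p)) d * b = b * mono (Equiv.refl (Fin p)) d := by
        have h7 : (a ^ m)⁻¹ * b = sc p (ζ ^ m)⁻¹ * (b * (a ^ m)⁻¹) := by
          have h8 := hpow m
          calc (a ^ m)⁻¹ * b = (a ^ m)⁻¹ * (sc p (ζ ^ m)⁻¹ * (sc p (ζ ^ m) * (b * a ^ m))) * (a ^ m)⁻¹ := by
                rw [← mul_assoc (sc p (ζ ^ m)⁻¹), ← sc_mul, inv_mul_cancel, sc_one]; group
            _ = (a ^ m)⁻¹ * (sc p (ζ ^ m)⁻¹ * (a ^ m * b)) * (a ^ m)⁻¹ := by rw [h8]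
            _ = (a ^ m)⁻¹ * (sc p (ζ ^ m)⁻¹ * a ^ m) * b * (a ^ m)⁻¹ := by group
            _ = _ := by rw [sc_comm]; group
        calc mono (Equiv.refl (Fin p)) d * b = mono (Equiv.refl (Fin p)) dx * sc p s * ((a ^ m)⁻¹ * b) := by
              rw [h5]; group
          _ = mono (Equiv.refl (Fin p)) dx * sc p s * (sc p (ζ ^ m)⁻¹ * (b * (a ^ m)⁻¹)) := by rw [h7]
          _ = mono (Equiv.refl (Fin p)) dx * (sc p s * (sc p (ζ ^ m)⁻¹ * b)) * (a ^ m)⁻¹ := by group
          _ = mono (Equiv.refl (Fin p)) dx * (sc p (ζ ^ m)⁻¹ * b * sc p s) * (a ^ m)⁻¹ := by rw [sc_comm s]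
          _ = (mono (Equiv.refl (Fin p)) dx * sc p (ζ ^ m)⁻¹) * b * sc p s * (a ^ m)⁻¹ := by group
          _ = sc p (ζ ^ m)⁻¹ * (mono (Equiv.refl (Fin p)) dx * b) * sc p s * (a ^ m)⁻¹ := by
              rw [← sc_comm (ζ ^ m)⁻¹ (mono _ _)]; group
          _ = (sc p (ζ ^ m)⁻¹ * sc p (ζ ^ m)) * (b * mono (Equiv.refl (Fin p)) dx) * sc p s * (a ^ m)⁻¹ := by
              rw [hz]; group
          _ = b * (mono (Equiv.refl (Fin p)) dx * sc p s * (a ^ m)⁻¹) := by
              rw [← sc_mul, inv_mul_cancel, sc_one]; group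
          _ = _ := by rw [← h5]
      refine ⟨x * (y ^ m)⁻¹, hdiag _ d hx2 hd h6, m, ?_⟩
      rw [zpow_natCast, inv_mul_cancel_right]
    have hBi : B.relIndex E = p ^ 2 := by
      refine relIndex_two hEp hEc hBE hy hf hyB (fun b' hb' m h3 => ?_) fun x hx => ?_
      · refine ShAct.absurd hn r hinj (x := f) ?_ hfs
        have h4 := (hB0 b' hb').mul (hy0.zpow_zero m)
        rw [← h3, add_zero] at h4
        exact h4
      · obtain ⟨x', hx', h3, n, h4⟩ := hdec x hx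
        obtain ⟨b', hb', m, h5⟩ := hdec2 x' hx' h3
        exact ⟨b', hb', m, n, by rw [h4, h5]⟩
    exact orb_sl_of h2 L U h7 he hEp hEc hBE hBi hψ hBψ hy hf hdy hdf hab
      (comm_stm hn hψ hσ (hEσ y hy) hdy) (comm_stm hn hψ hσ (hEσ f hf) hdf) hM hg
where
  hpow' {y : Y} {x : GL (Fin p) k} (hx : ∀ g, y * ψ g * y⁻¹ = ψ (cj x g)) {i : ℕ}
      {g : Matrix.SpecialLinearGroup (Fin p) k} : y ^ i * ψ g * (y ^ i)⁻¹ = ψ (cj (x ^ i) g) := hpow hx i g

theorem not_three_two (h7 : 7 ≤ p ∨ r ≠ 2) (he : 0 < e) : ¬ (p = 3 ∧ r ^ e = 2) := by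
  rintro ⟨h3, hre⟩
  rcases h7 with h7 | h7
  · omega
  · apply h7
    have h4 : r ∣ 2 := hre ▸ dvd_pow_self r he.ne'
    exact (Nat.prime_dvd_prime_iff_eq Fact.out Nat.prime_two).1 h4

/-- fixed points of `stm` are products of `r`-elements fixed by `σ` -/
theorem mem_closure_r {n : ℕ} [NeZero n] {ψ : Matrix.SpecialLinearGroup (Fin n) k →* Y} (hn : 3 ≤ n)
    (h32 : ¬ (n = 3 ∧ r ^ e = 2)) (he : 0 < e)
    {σ : Y →* Y} {D : GL (Fin n) k} {uni : Bool}
    (hσ : ∀ g, σ (ψ g) = ψ (stm r e D uni g)) {g : Matrix.SpecialLinearGroup (Fin n) k} (hg : stm r e D uni g = g) :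
    ψ g ∈ Subgroup.closure {u : Y | σ u = u ∧ ∃ j : ℕ, u ^ r ^ j = 1} := by
  have h1 := fix_gen hn he h32 hg
  have h3 : Subgroup.closure {h : Matrix.SpecialLinearGroup (Fin n) k | stm r e D uni h = h ∧ h ^ r = 1} ≤
      (Subgroup.closure {u : Y | σ u = u ∧ ∃ j : ℕ, u ^ r ^ j = 1}).comap ψ := by
    rw [Subgroup.closure_le]
    rintro y ⟨hy, hyr⟩
    exact Subgroup.subset_closure ⟨by rw [hσ, hy], 1, by rw [pow_one, ← map_pow, hyr, map_one]⟩
  exact h3 h1

/-- **Frames shifted by `E`: fixed points.** -/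
theorem cyc_fix (h2 : p ≠ 2) (L : LinFacts.{u} p) (U : UniFacts.{u} p) (h7 : 7 ≤ p ∨ r ≠ 2) (he : 0 < e)
    (hEp : ∀ a ∈ E, a ^ p = 1) (hEc : ∀ a ∈ E, ∀ b ∈ E, a * b = b * a)
    (hinj : ∀ (i j : Fin p) (hij : i ≠ j), Function.Injective fun t : k => ψ (transvection hij t))
    {σ : Y →* Y} (hEσ : ∀ x ∈ E, σ x = x) {D : GL (Fin p) k} {uni : Bool}
    (hσ : ∀ g, σ (ψ g) = ψ (stm r e D uni g)) {f : Y} (hf : f ∈ E) (hfs : ShAct ψ 1 f)
    (hE : ∀ x ∈ E, ∃ m, ShAct ψ m x) {H : Subgroup Y}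
    (hH : ∀ F ≤ E, F.relIndex E = p → ∀ u ∈ Subgroup.closure {u : Y | σ u = u ∧ ∃ j : ℕ, u ^ r ^ j = 1},
      (∀ x ∈ F, x * u = u * x) → u ∈ H)
    {g : Matrix.SpecialLinearGroup (Fin p) k} (hg : stm r e D uni g = g) : ψ g ∈ H := by
  have hn : 3 ≤ p := by have := hp.1.two_le; omega
  exact cyc_sl h2 L U h7 he hEp hEc hinj hEσ hσ hf hfs hE (M := H.comap ψ)
    (fun F hFE hFi x hx hxF => hH F hFE hFi (ψ x) (mem_closure_r hn (not_three_two h7 he) he hσ hx)
      fun y hy => (hxF y hy).symm) hg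

/-- **Frames shifted by `E`: `r`-elements.** -/
theorem cyc_mem (h2 : p ≠ 2) (L : LinFacts.{u} p) (U : UniFacts.{u} p) (h7 : 7 ≤ p ∨ r ≠ 2) (he : 0 < e) (hpr : p ≠ r)
    (hEp : ∀ a ∈ E, a ^ p = 1) (hEc : ∀ a ∈ E, ∀ b ∈ E, a * b = b * a)
    (hinj : ∀ (i j : Fin p) (hij : i ≠ j), Function.Injective fun t : k => ψ (transvection hij t))
    {σ : Y →* Y} (hEσ : ∀ x ∈ E, σ x = x) {D : GL (Fin p) k} {uni : Bool}
    (hσ : ∀ g, σ (ψ g) = ψ (stm r e D uni g)) {f : Y} (hf : f ∈ E) (hfs : ShAct ψ 1 f)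
    (hE : ∀ x ∈ E, ∃ m, ShAct ψ m x) {H : Subgroup Y}
    (hH : ∀ F ≤ E, F.relIndex E = p → ∀ u ∈ Subgroup.closure {u : Y | σ u = u ∧ ∃ j : ℕ, u ^ r ^ j = 1},
      (∀ x ∈ F, x * u = u * x) → u ∈ H)
    {u : Y} (hu : u ∈ ψ.range) (hσu : σ u = u) (hr : ∃ j : ℕ, u ^ r ^ j = 1) : u ∈ H := by
  have hn : 3 ≤ p := by have := hp.1.two_le; omega
  obtain ⟨g, rfl⟩ := hu
  obtain ⟨j, hj⟩ := hr
  obtain ⟨x, hx, hxg⟩ := exists_fixed hn hpr (exists_ne_one hn hinj) hσ hσu hj
  rw [← hxg]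
  exact cyc_fix h2 L U h7 he hEp hEc hinj hEσ hσ hf hfs hE hH hx

end Cyc

end Cfsg.Agent.H321.Mono
end

-- part: H321/Mono/OrbA
section
/-!
# S2187, X4: orbits of type `A_{p-1}` (M5A)

* `conj_form` : representatives on root elements;
* `fm_inj`, `fm_act`, `fm_sigma` : the homomorphism of a frame;
* `inS_of_afr` : a frame of type `A_{p-1}` shifted by `E`, `p` odd;
* `inS_A` : `p = 3`, any root.
-/

set_option autoImplicit false
set_option linter.unusedSectionVars false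

namespace Cfsg.Agent.H321.Mono

open CoxeterSystem Cfsg Cfsg.Lie Cfsg.Lie.ChevalleyDatum
open Cfsg.Agent.ChevalleyStructure Cfsg.Agent.ChevalleyStructure.Elts Cfsg.Agent.ChevalleyStructure.CoxeterGeom
  Cfsg.Agent.ChevalleyStructure.CoxeterGeomTypes Cfsg.Agent.ChevalleyStructure.NPerm
open Cfsg.Agent.Tits.Roots Cfsg.Agent.Tits.Core Cfsg.Agent.Nodes Cfsg.Agent.Nodes.Reps Cfsg.Agent.Nodes.BNOf
  Cfsg.Agent.Nodes.SubComb Cfsg.Agent.Nodes.RGDChev Cfsg.Agent.Nodes.Bruhat Cfsg.Agent.Nodes.Coroot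
open Cfsg.Agent.KFacts.RgdField Cfsg.Agent.KFacts.RgdChevCoord
open Cfsg.Agent.BpExc Cfsg.Agent.BpExc.TorCent Cfsg.Agent.BpExc.TorChev Cfsg.Agent.BpExc.Tow
  Cfsg.Agent.BpExc.TowChev Cfsg.Agent.BpExc.Fr Cfsg.Agent.BpExc.LangFr
open Cfsg.Agent.H469.Exc Cfsg.Agent.H316.U6 Cfsg.Agent.H818.Gen Cfsg.Agent.H818.Mono Cfsg.Agent.H696.GmnToral
open Cfsg.Agent.H225.Gen (LL LL_rep LL_root LL_neg)
open Cfsg.Agent.H496.Mono
open Cfsg.Agent.H818.StrP.UTab
open Cfsg.Agent.H46.Gen (AFr Rt xf sgn sgn_ne_zero xf_inj exists_hom_afr rt_iff afr_of_three)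
open Cfsg.Agent.H508.Dens (frob_form)
open Cfsg.Agent.H321.Ker
open scoped MatrixGroups
open Matrix.SpecialLinearGroup (transvection)

variable {D : ChevalleyDatum} {l : ℕ} {M : CoxeterMatrix (Fin l)} {hp : IsType D l M} {r : ℕ} [Fact r.Prime]

/-- representatives on root elements -/
theorem conj_form {w : M.Group} {y : ↥(D.group (KK r))} (h : NR hp r w y) {a : Fin l → ℤ}
    (ha : IsRoot M.toCoxeterSystem hp.isCartan a) : ∃ u : KK r, u ≠ 0 ∧ ∀ c : KK r,
      y * xc hp a c * y⁻¹ = xc hp (rep M.toCoxeterSystem hp.isCartan w a) (u * c) := by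
  obtain ⟨u, hu, h1⟩ := frob_form (r := r) (e := 0) hp M.toCoxeterSystem (IsFrob.conj y) (nr_frame h) ha
  refine ⟨u, hu, fun c => ?_⟩
  have h2 := h1 c
  rw [pow_zero, pow_one] at h2
  exact h2

section Frame

variable {n : ℕ} {ev : Fin (n + 1) → Fin l → ℤ} (hev : AFr D l ev)
  {ψ : Matrix.SpecialLinearGroup (Fin (n + 1)) (KK r) →* ↥(D.group (KK r))}
  (hψ : ∀ i j (hij : i ≠ j) a, ψ (transvection hij a) = xf hp ev i j a)

include hev

theorem fm_root {i j : Fin (n + 1)} (hij : i ≠ j) : IsRoot M.toCoxeterSystem hp.isCartan (ev i - ev j) :=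
  (rt_iff hp M.toCoxeterSystem).1 (hev.rt i j hij)

include hψ

theorem fm_inj (i j : Fin (n + 1)) (hij : i ≠ j) :
    Function.Injective fun t : KK r => ψ (transvection hij t) := by
  intro s t hst
  have h1 : ψ (transvection hij s) = ψ (transvection hij t) := hst
  rw [hψ, hψ] at h1
  exact xf_inj hp hev hij h1

/-- the action of a representative -/
theorem fm_act {w : M.Group} {y : ↥(D.group (KK r))} (h : NR hp r w y) {m : Fin (n + 1)}
    (hw : ∀ i j, i ≠ j → rep M.toCoxeterSystem hp.isCartan w (ev i - ev j) = ev (i + m) - ev (j + m)) :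
    ShAct ψ m y := by
  have h1 : ∀ i j : Fin (n + 1), ∃ c : KK r, i ≠ j → c ≠ 0 ∧ ∀ t : KK r,
      y * ψ (if hij : i ≠ j then transvection hij t else 1) * y⁻¹ =
        ψ (if hij : i ≠ j then transvection (add_left_injective m |>.ne hij) (c * t) else 1) := by
    intro i j
    by_cases hij : i = j
    · exact ⟨1, fun h => absurd hij h⟩
    · obtain ⟨u, hu, h2⟩ := conj_form h (fm_root (hp := hp) hev hij)
      have hij' : i + m ≠ j + m := add_left_injective m |>.ne hij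
      refine ⟨(sgn D l ev (i + m) (j + m) : KK r)⁻¹ * u * (sgn D l ev i j : KK r), fun _ => ⟨?_, fun t => ?_⟩⟩
      · exact mul_ne_zero (mul_ne_zero (inv_ne_zero (sgn_ne_zero hp hev hij')) hu) (sgn_ne_zero hp hev hij)
      · rw [dif_pos hij, dif_pos hij, hψ, hψ]
        unfold xf
        rw [h2, hw i j hij]
        congr 1
        rw [mul_assoc, mul_assoc, mul_inv_cancel_left₀ (sgn_ne_zero hp hev hij')]
  choose c hc using h1
  refine ShAct.of_forall (c := c) (fun i j hij => (hc i j hij).1) fun i j hij t => ?_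
  have h2 := (hc i j hij).2 t
  rwa [dif_pos hij, dif_pos hij] at h2

theorem fm_sigma {e : ℕ} {τ : MulAut ↥(D.group (KK r))} {γ : (Fin l → ℤ) ≃+ (Fin l → ℤ)} (hτ : IsFrob r e τ)
    (F : Fr M.toCoxeterSystem hp.isCartan (TT D (KK r)) (XX D l (KK r)) τ γ) (hn : 2 ≤ n) {π : Equiv.Perm (Fin (n + 1))}
    (hγ : (∀ i j, i ≠ j → γ (ev i - ev j) = ev (π i) - ev (π j)) ∨
      (∀ i j, i ≠ j → γ (ev i - ev j) = ev (π j) - ev (π i))) :
    ∃ (Dm : GL (Fin (n + 1)) (KK r)) (uni : Bool), ∀ g, τ (ψ g) = ψ (stm r e Dm uni g) := by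
  have hn3 : 3 ≤ n + 1 := by omega
  have hinj := fm_inj hev hψ
  have hF : ∀ i j : Fin (n + 1), ∃ u : KK r, i ≠ j → u ≠ 0 ∧
      ∀ c : KK r, τ (xc hp (ev i - ev j) c) = xc hp (γ (ev i - ev j)) (u * c ^ r ^ e) := by
    intro i j
    by_cases hij : i = j
    · exact ⟨1, fun h => absurd hij h⟩
    · obtain ⟨u, hu, h2⟩ := frob_form hp M.toCoxeterSystem hτ F (fm_root (hp := hp) hev hij)
      exact ⟨u, fun _ => ⟨hu, h2⟩⟩
  choose u hu using hF
  rcases hγ with hγ | hγ
  · have h1 : ∀ (i j : Fin (n + 1)) (hij : i ≠ j) (t : KK r), τ.toMonoidHom (ψ (transvection hij t)) =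
        ψ (transvection (π.injective.ne hij)
          ((sgn D l ev (π i) (π j) : KK r)⁻¹ * u i j * (sgn D l ev i j : KK r) ^ r ^ e * t ^ r ^ e)) := by
      intro i j hij t
      rw [hψ, hψ]
      unfold xf
      show τ _ = _
      rw [(hu i j hij).2, hγ i j hij]
      congr 1
      have hs := sgn_ne_zero (k := KK r) hp hev (π.injective.ne hij)
      rw [mul_assoc, mul_assoc, mul_inv_cancel_left₀ hs, mul_pow]
    obtain ⟨d, -, hd⟩ := exists_lin (r := r) (e := e) (φ := τ.toMonoidHom) (π := π)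
      (c := fun i j => (sgn D l ev (π i) (π j) : KK r)⁻¹ * u i j * (sgn D l ev i j : KK r) ^ r ^ e) hn3 hinj
      (fun i j hij => mul_ne_zero (mul_ne_zero (inv_ne_zero (sgn_ne_zero hp hev (π.injective.ne hij))) (hu i j hij).1)
        (pow_ne_zero _ (sgn_ne_zero hp hev hij))) h1
    exact ⟨_, _, hd⟩
  · have h1 : ∀ (i j : Fin (n + 1)) (hij : i ≠ j) (t : KK r), τ.toMonoidHom (ψ (transvection hij t)) =
        ψ (transvection (π.injective.ne hij.symm)
          ((sgn D l ev (π j) (π i) : KK r)⁻¹ * u i j * (sgn D l ev i j : KK r) ^ r ^ e * t ^ r ^ e)) := by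
      intro i j hij t
      rw [hψ, hψ]
      unfold xf
      show τ _ = _
      rw [(hu i j hij).2, hγ i j hij]
      congr 1
      have hs := sgn_ne_zero (k := KK r) hp hev (π.injective.ne hij.symm)
      rw [mul_assoc, mul_assoc, mul_inv_cancel_left₀ hs, mul_pow]
    obtain ⟨d, -, hd⟩ := exists_uni (r := r) (e := e) (φ := τ.toMonoidHom) (π := π)
      (c := fun i j => (sgn D l ev (π j) (π i) : KK r)⁻¹ * u i j * (sgn D l ev i j : KK r) ^ r ^ e) hn3 hinj
      (fun i j hij => mul_ne_zero (mul_ne_zero (inv_ne_zero (sgn_ne_zero hp hev (π.injective.ne hij.symm)))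
        (hu i j hij).1) (pow_ne_zero _ (sgn_ne_zero hp hev hij))) h1
    exact ⟨_, _, hd⟩

/-- the root groups of the frame -/
theorem fm_Sup : RGD.Sup (XX D l (KK r)) {v | ∃ i j, i ≠ j ∧ v = ev i - ev j} ≤ ψ.range := by
  refine RGD.Sup_le ?_
  rintro _ ⟨i, j, hij, rfl⟩ u hu
  obtain ⟨c, rfl⟩ := (Cfsg.Agent.H508.Dens.mem_XX_iff hp M.toCoxeterSystem (fm_root (hp := hp) hev hij)).1 hu
  refine ⟨transvection hij ((sgn D l ev i j : KK r)⁻¹ * c), ?_⟩
  rw [hψ]
  unfold xf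
  rw [mul_inv_cancel_left₀ (sgn_ne_zero hp hev hij)]

end Frame

section Orb

variable {n e : ℕ} [hn1 : Fact (n + 1).Prime] {τ : MulAut ↥(D.group (KK r))} {γ : (Fin l → ℤ) ≃+ (Fin l → ℤ)}
  {E H : Subgroup ↥(D.group (KK r))}

theorem InS.mono {τ : MulAut ↥(D.group (KK r))} {H : Subgroup ↥(D.group (KK r))} {S S' : Set (Fin l → ℤ)}
    (h : InS r l τ H S') (hS : S ⊆ S') : InS r l τ H S := fun u hu => h u (RGD.Sup_mono hS hu)

/-- **M5A: frames of type `A_{p-1}` shifted by `E`.** -/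
theorem inS_of_afr (S : Sit hp r (n + 1) e τ γ E H) (h2 : n + 1 ≠ 2) (hr : r ≠ 2) (hpr : n + 1 ≠ r)
    {ev : Fin (n + 1) → Fin l → ℤ} (hev : AFr D l ev) {π : Equiv.Perm (Fin (n + 1))}
    (hγ : (∀ i j, i ≠ j → γ (ev i - ev j) = ev (π i) - ev (π j)) ∨
      (∀ i j, i ≠ j → γ (ev i - ev j) = ev (π j) - ev (π i)))
    {w : M.Group} (hw : w ∈ VE hp r E)
    (hws : ∀ i j, i ≠ j → rep M.toCoxeterSystem hp.isCartan w (ev i - ev j) = ev (i + 1) - ev (j + 1))
    (hV : ∀ v ∈ VE hp r E, ∃ m : Fin (n + 1), ∀ i j, i ≠ j →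
      rep M.toCoxeterSystem hp.isCartan v (ev i - ev j) = ev (i + m) - ev (j + m)) :
    InS r l τ H {v | ∃ i j, i ≠ j ∧ v = ev i - ev j} := by
  have hn2 : 2 ≤ n := by have := hn1.1.two_le; omega
  obtain ⟨ψ, hψ, -⟩ := exists_hom_afr (k := KK r) hp hev hn2 (locFin r)
  obtain ⟨Dm, uni, hσ⟩ := fm_sigma hev hψ S.frob S.fr hn2 hγ
  obtain ⟨f, hf, hfw⟩ := hw
  intro u hu hτu hur
  exact cyc_mem (σ := τ.toMonoidHom) h2 (linFacts hn1.1 h2) (uniFacts hn1.1 h2) (Or.inr hr) S.he hpr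
    (fun a ha => S.el.2 a ha) (fun a ha b hb => comm_E S ha hb) (fm_inj hev hψ) (fun x hx => S.fix x hx) hσ hf
    (fm_act hev hψ hfw hws) (fun x hx => by
      obtain ⟨v, hv⟩ := S.nrm x hx
      obtain ⟨m, hm⟩ := hV v ⟨x, hx, hv⟩
      exact ⟨m, fm_act hev hψ hv hm⟩) (fun F hF hFi u hu hux => S.cent F hF hFi u hu hux) (fm_Sup hev hψ hu) hτu hur

end Orb

section Three

variable {e : ℕ} {τ : MulAut ↥(D.group (KK r))} {γ : (Fin l → ℤ) ≃+ (Fin l → ℤ)} {E H : Subgroup ↥(D.group (KK r))}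

/-- the frame of a triple -/
def ev3 (a b : Fin l → ℤ) : Fin 3 → Fin l → ℤ := ![a, 0, -b]

theorem ev3_01 (a b : Fin l → ℤ) : ev3 a b 0 - ev3 a b 1 = a := by
  show a - 0 = a
  rw [sub_zero]

theorem ev3_12 (a b : Fin l → ℤ) : ev3 a b 1 - ev3 a b 2 = b := by
  show (0 : Fin l → ℤ) - -b = b
  rw [zero_sub, neg_neg]

theorem ev3_20 (a b c : Fin l → ℤ) (h : a + b + c = 0) : ev3 a b 2 - ev3 a b 0 = c := by
  show -b - a = c
  have : c = -(a + b) := by rw [eq_neg_iff_add_eq_zero, ← h]; abel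
  rw [this]; abel

/-- shifts of the frame -/
theorem shift3 {V : Subgroup M.Group} (hV : ∀ v ∈ V, ∀ w ∈ V, v * w = w * v) {f : M.Group} (hf : f ∈ V)
    {a : Fin l → ℤ}
    (h3 : a + rep M.toCoxeterSystem hp.isCartan f a + rep M.toCoxeterSystem hp.isCartan (f ^ 2) a = 0)
    (hf3 : f ^ 3 = 1) {v : M.Group} (hv : v ∈ V) {j : ℕ}
    (hj : rep M.toCoxeterSystem hp.isCartan v a = rep M.toCoxeterSystem hp.isCartan (f ^ j) a) :
    ∃ m : Fin 3, ∀ i j, i ≠ j → rep M.toCoxeterSystem hp.isCartan v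
        (ev3 a (rep M.toCoxeterSystem hp.isCartan f a) i - ev3 a (rep M.toCoxeterSystem hp.isCartan f a) j) =
      ev3 a (rep M.toCoxeterSystem hp.isCartan f a) (i + m) - ev3 a (rep M.toCoxeterSystem hp.isCartan f a) (j + m) := by
  set cs := M.toCoxeterSystem with hcs
  set b := rep cs hp.isCartan f a with hb
  set c := rep cs hp.isCartan (f ^ 2) a with hc
  have hfb : rep cs hp.isCartan f b = c := by rw [hb, hc, pow_two, map_mul, Module.End.mul_apply]
  have hfc : rep cs hp.isCartan f c = a := by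
    rw [hc, ← Module.End.mul_apply, ← map_mul, ← pow_succ', hf3, map_one, Module.End.one_apply]
  have e01 := ev3_01 a b
  have e12 := ev3_12 a b
  have e20 := ev3_20 a b c h3
  have e10 : ev3 a b 1 - ev3 a b 0 = -a := by rw [← neg_sub, e01]
  have e21 : ev3 a b 2 - ev3 a b 1 = -b := by rw [← neg_sub, e12]
  have e02 : ev3 a b 0 - ev3 a b 2 = -c := by rw [← neg_sub, e20]
  -- it is enough to look at `a, b, c`
  have key : ∀ (m : Fin 3), rep cs hp.isCartan v a = ev3 a b (0 + m) - ev3 a b (1 + m) →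
      rep cs hp.isCartan v b = ev3 a b (1 + m) - ev3 a b (2 + m) →
      rep cs hp.isCartan v c = ev3 a b (2 + m) - ev3 a b (0 + m) → ∀ i j, i ≠ j →
      rep cs hp.isCartan v (ev3 a b i - ev3 a b j) = ev3 a b (i + m) - ev3 a b (j + m) := by
    intro m h1 h2 h4 i j hij
    have hcases : ∀ i j : Fin 3, i ≠ j → (i = 0 ∧ j = 1) ∨ (i = 1 ∧ j = 2) ∨ (i = 2 ∧ j = 0) ∨ (i = 1 ∧ j = 0) ∨
        (i = 2 ∧ j = 1) ∨ (i = 0 ∧ j = 2) := by decide
    rcases hcases i j hij with ⟨rfl, rfl⟩ | ⟨rfl, rfl⟩ | ⟨rfl, rfl⟩ | ⟨rfl, rfl⟩ | ⟨rfl, rfl⟩ | ⟨rfl, rfl⟩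
    · rw [e01, h1]
    · rw [e12, h2]
    · rw [e20, h4]
    · rw [e10, map_neg, h1, neg_sub]
    · rw [e21, map_neg, h2, neg_sub]
    · rw [e02, map_neg, h4, neg_sub]
  have hvb : rep cs hp.isCartan v b = rep cs hp.isCartan f (rep cs hp.isCartan v a) := by
    rw [hb, ← Module.End.mul_apply, ← map_mul, hV v hv f hf, map_mul, Module.End.mul_apply]
  have hvc : rep cs hp.isCartan v c = rep cs hp.isCartan f (rep cs hp.isCartan v b) := by
    rw [← hfb, ← Module.End.mul_apply, ← map_mul, hV v hv f hf, map_mul, Module.End.mul_apply]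
  have hjm : rep cs hp.isCartan (f ^ j) a = rep cs hp.isCartan (f ^ (j % 3)) a := by
    conv_lhs => rw [← Nat.mod_add_div j 3, pow_add, pow_mul, hf3, one_pow, mul_one]
  have hj3 : j % 3 < 3 := Nat.mod_lt _ (by norm_num)
  rw [hjm] at hj
  interval_cases (j % 3)
  · rw [pow_zero, map_one, Module.End.one_apply] at hj
    rw [hj] at hvb
    rw [hvb] at hvc
    refine ⟨0, key 0 ?_ ?_ ?_⟩
    · rw [hj]; exact e01.symm
    · rw [hvb]; exact e12.symm
    · rw [hvc, ← hb, hfb]; exact e20.symm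
  · rw [pow_one, ← hb] at hj
    rw [hj, hfb] at hvb
    rw [hvb, hfc] at hvc
    refine ⟨1, key 1 ?_ ?_ ?_⟩
    · rw [hj]; exact e12.symm
    · rw [hvb]; exact e20.symm
    · rw [hvc]; exact e01.symm
  · rw [← hc] at hj
    rw [hj, hfc] at hvb
    rw [hvb, ← hb] at hvc
    refine ⟨2, key 2 ?_ ?_ ?_⟩
    · rw [hj]; exact e20.symm
    · rw [hvb]; exact e01.symm
    · rw [hvc]; exact e12.symm

/-- **M5A, `p = 3`, any root** (`D` not of type `G₂`) -/
theorem inS_A (S : Sit hp r 3 e τ γ E H) (hG : D ≠ chevG2) (hr : r ≠ 2) (hpr : 3 ≠ r) {a : Fin l → ℤ}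
    (ha : IsRoot M.toCoxeterSystem hp.isCartan a) {ε : ℤ} (hε : ε = 1 ∨ ε = -1) (hγ : γ a = ε • a)
    (hO : OrbA hp (VE hp r E) a) :
    ∃ f ∈ VE hp r E, InS r l τ H {a, -a, rep M.toCoxeterSystem hp.isCartan f a,
      -rep M.toCoxeterSystem hp.isCartan f a, rep M.toCoxeterSystem hp.isCartan (f ^ 2) a,
      -rep M.toCoxeterSystem hp.isCartan (f ^ 2) a} := by
  have := finite_W hp M.toCoxeterSystem
  obtain ⟨f, hf, h3, hO⟩ := hO
  refine ⟨f, hf, ?_⟩
  set cs := M.toCoxeterSystem with hcs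
  have hf3 : f ^ 3 = 1 := VE_pow S hf
  have hsh := fun (v : M.Group) (hv : v ∈ VE hp r E) (j : ℕ) hj =>
    shift3 (hp := hp) (fun v hv w hw => VE_comm S hv hw) hf h3 hf3 (v := v) hv (j := j) hj
  set b := rep cs hp.isCartan f a with hb
  set c := rep cs hp.isCartan (f ^ 2) a with hc
  have hfb : rep cs hp.isCartan f b = c := by rw [hb, hc, pow_two, map_mul, Module.End.mul_apply]
  have e01 := ev3_01 a b
  have e12 := ev3_12 a b
  have e20 := ev3_20 a b c h3
  have e10 : ev3 a b 1 - ev3 a b 0 = -a := by rw [← neg_sub, e01]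
  have e21 : ev3 a b 2 - ev3 a b 1 = -b := by rw [← neg_sub, e12]
  have e02 : ev3 a b 0 - ev3 a b 2 = -c := by rw [← neg_sub, e20]
  have hcases : ∀ i j : Fin 3, i ≠ j → (i = 0 ∧ j = 1) ∨ (i = 1 ∧ j = 2) ∨ (i = 2 ∧ j = 0) ∨ (i = 1 ∧ j = 0) ∨
    (i = 2 ∧ j = 1) ∨ (i = 0 ∧ j = 2) := by decide
  have hev : AFr D l (ev3 a b) := afr_of_three hp cs hG ha (w := f)
    (by rw [← hb, hfb, h3]) e01 (by rw [e12, hb])
  have hγb : γ b = ε • b := by rw [hb, VE_gam S hf ha, hγ, map_zsmul]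
  have hγc : γ c = ε • c := by rw [hc, VE_gam S (pow_mem hf 2) ha, hγ, map_zsmul]
  have hF3 : Fact (2 + 1).Prime := ⟨Nat.prime_three⟩
  have h1 : ∀ i j, i ≠ j → γ (ev3 a b i - ev3 a b j) = ε • (ev3 a b i - ev3 a b j) := by
    intro i j hij
    rcases hcases i j hij with ⟨rfl, rfl⟩ | ⟨rfl, rfl⟩ | ⟨rfl, rfl⟩ | ⟨rfl, rfl⟩ | ⟨rfl, rfl⟩ | ⟨rfl, rfl⟩
    · rw [e01, hγ]
    · rw [e12, hγb]
    · rw [e20, hγc]
    · rw [e10, map_neg, hγ, smul_neg]
    · rw [e21, map_neg, hγb, smul_neg]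
    · rw [e02, map_neg, hγc, smul_neg]
  refine InS.mono (inS_of_afr (n := 2) S (by norm_num) hr hpr hev (π := Equiv.refl _) ?_ hf ?_ ?_) ?_
  · rcases hε with rfl | rfl
    · left
      intro i j hij
      rw [h1 i j hij, one_smul]
      rfl
    · right
      intro i j hij
      rw [h1 i j hij, neg_one_smul, neg_sub]
      rfl
  · intro i j hij
    obtain ⟨m, hm⟩ := hsh f hf 1 (by rw [pow_one])
    have h4 := hm 0 1 (by decide)
    rw [e01, ← hb] at h4
    have hm1 : m = 1 := by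
      have hb0 : b ≠ 0 := (ha.act f).ne_zero
      have ha0 : a ≠ 0 := ha.ne_zero
      have hc0 : c ≠ 0 := (ha.act (f ^ 2)).ne_zero
      have hm3 : m = 0 ∨ m = 1 ∨ m = 2 := (by decide : ∀ m : Fin 3, m = 0 ∨ m = 1 ∨ m = 2) m
      rcases hm3 with rfl | rfl | rfl
      · exfalso
        have h5 : b = a := h4.trans e01
        have h6 : c = a := by rw [← hfb, h5, ← hb, h5]
        rw [h5, h6] at h3
        apply ha0
        have h7 : (3 : ℤ) • a = 0 := by rw [← h3]; module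
        rcases smul_eq_zero.1 h7 with h8 | h8
        · norm_num at h8
        · exact h8
      · rfl
      · exfalso
        have h5 : b = c := h4.trans e20
        have h6 : rep cs hp.isCartan f a = rep cs hp.isCartan f b := by rw [hfb, ← hb, h5]
        have h8 : a = b := by
          have h9 := congrArg (rep cs hp.isCartan f⁻¹) h6
          rwa [← Module.End.mul_apply, ← Module.End.mul_apply, ← map_mul, inv_mul_cancel, map_one,
            Module.End.one_apply, Module.End.one_apply] at h9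
        rw [← h8] at h5
        rw [← h8, ← h5] at h3
        apply ha0
        have h7 : (3 : ℤ) • a = 0 := by rw [← h3]; module
        rcases smul_eq_zero.1 h7 with h8 | h8
        · norm_num at h8
        · exact h8
    subst hm1
    exact hm i j hij
  · intro v hv
    obtain ⟨j, hj⟩ := hO v hv
    exact hsh v hv j hj
  · rintro x (rfl | rfl | rfl | rfl | rfl | rfl)
    · exact ⟨0, 1, by decide, e01.symm⟩
    · exact ⟨1, 0, by decide, e10.symm⟩
    · exact ⟨1, 2, by decide, e12.symm⟩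
    · exact ⟨2, 1, by decide, e21.symm⟩
    · exact ⟨2, 0, by decide, e20.symm⟩
    · exact ⟨0, 2, by decide, e02.symm⟩

end Three

end Cfsg.Agent.H321.Mono
end
end

-- part: H321/Mono/OrbC
section
prune_inst 0x30304500152200000018001000000064280000022041000098e101020146d2402002000049200813400088402000006811000010422000000a00000040040120802a52069348a104260097803884000000000000000000000000000000041000000000000
set_option linter.all false
open scoped Cfsg.Agent.FastGrp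

/-!
# S2187, X4: frames shifted by `E`, general form

* `mem_closure_rr` : fixed points of `stm` are products of `r`-elements of `ψ (SL_n(k))` fixed by `σ`;
* `core_afr` : as `inS_of_afr`, for any subgroup `N` of `Y`;
* `core` : `p = 3`, any root (form of helper82);
* `p5_orbA` : `P5 hp r 3 (OrbA hp)`.
-/

set_option autoImplicit false
set_option linter.unusedSectionVars false

namespace Cfsg.Agent.H321.Mono

open CoxeterSystem Cfsg Cfsg.Lie Cfsg.Lie.ChevalleyDatum
open Cfsg.Agent.ChevalleyStructure Cfsg.Agent.ChevalleyStructure.Elts Cfsg.Agent.ChevalleyStructure.CoxeterGeom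
  Cfsg.Agent.ChevalleyStructure.CoxeterGeomTypes Cfsg.Agent.ChevalleyStructure.NPerm
open Cfsg.Agent.Tits.Roots Cfsg.Agent.Tits.Core Cfsg.Agent.Nodes Cfsg.Agent.Nodes.Reps Cfsg.Agent.Nodes.BNOf
  Cfsg.Agent.Nodes.SubComb Cfsg.Agent.Nodes.RGDChev Cfsg.Agent.Nodes.Bruhat Cfsg.Agent.Nodes.Coroot
open Cfsg.Agent.KFacts.RgdField Cfsg.Agent.KFacts.RgdChevCoord
open Cfsg.Agent.BpExc Cfsg.Agent.BpExc.TorCent Cfsg.Agent.BpExc.TorChev Cfsg.Agent.BpExc.Tow
  Cfsg.Agent.BpExc.TowChev Cfsg.Agent.BpExc.Fr Cfsg.Agent.BpExc.LangFr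
open Cfsg.Agent.H469.Exc Cfsg.Agent.H316.U6 Cfsg.Agent.H818.Gen Cfsg.Agent.H818.Mono Cfsg.Agent.H696.GmnToral
open Cfsg.Agent.H225.Gen (LL LL_rep LL_root LL_neg)
open Cfsg.Agent.H496.Mono
open Cfsg.Agent.H818.StrP.UTab
open Cfsg.Agent.H46.Gen (AFr Rt xf sgn sgn_ne_zero xf_inj exists_hom_afr rt_iff afr_of_three)
open Cfsg.Agent.H321.Ker
open scoped MatrixGroups
open Matrix.SpecialLinearGroup (transvection)

/-- fixed points of `stm` are products of `r`-elements fixed by `σ` -/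
theorem mem_closure_rr {n : ℕ} [NeZero n] {k : Type*} [Field k] [IsAlgClosed k] {r e : ℕ} [Fact r.Prime] [CharP k r]
    {Y : Type*} [Group Y] {ψ : Matrix.SpecialLinearGroup (Fin n) k →* Y} (hn : 3 ≤ n)
    (h32 : ¬ (n = 3 ∧ r ^ e = 2)) (he : 0 < e) {P : Subgroup Y} (hP : ψ.range ≤ P)
    {σ : Y →* Y} {D : GL (Fin n) k} {uni : Bool}
    (hσ : ∀ g, σ (ψ g) = ψ (stm r e D uni g)) {g : Matrix.SpecialLinearGroup (Fin n) k} (hg : stm r e D uni g = g) :
    ψ g ∈ Subgroup.closure {u : Y | u ∈ P ∧ σ u = u ∧ ∃ j : ℕ, u ^ r ^ j = 1} := by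
  have h1 := fix_gen hn he h32 hg
  have h3 : Subgroup.closure {h : Matrix.SpecialLinearGroup (Fin n) k | stm r e D uni h = h ∧ h ^ r = 1} ≤
      (Subgroup.closure {u : Y | u ∈ P ∧ σ u = u ∧ ∃ j : ℕ, u ^ r ^ j = 1}).comap ψ := by
    rw [Subgroup.closure_le]
    rintro y ⟨hy, hyr⟩
    exact Subgroup.subset_closure ⟨hP ⟨y, rfl⟩, by rw [hσ, hy], 1, by rw [pow_one, ← map_pow, hyr, map_one]⟩
  exact h3 h1

variable {D : ChevalleyDatum} {l : ℕ} {M : CoxeterMatrix (Fin l)} {hp : IsType D l M} {r : ℕ} [Fact r.Prime]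

/-- the homomorphism of a frame maps into the group generated by the root groups -/
theorem fm_range {n : ℕ} {ev : Fin (n + 1) → Fin l → ℤ} (hev : AFr D l ev)
    {ψ : Matrix.SpecialLinearGroup (Fin (n + 1)) (KK r) →* ↥(D.group (KK r))}
    (hψ : ∀ i j (hij : i ≠ j) a, ψ (transvection hij a) = xf hp ev i j a) (hn : 1 ≤ n) :
    ψ.range ≤ RGD.Sup (XX D l (KK r)) {v | ∃ i j, i ≠ j ∧ v = ev i - ev j} := by
  have : Nontrivial (Fin (n + 1)) := Fin.nontrivial_iff_two_le.2 (by omega)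
  rintro _ ⟨g, rfl⟩
  refine Cfsg.Agent.LieClassical.SLGen.transvection_induction
    (fun g => ψ g ∈ RGD.Sup (XX D l (KK r)) {v | ∃ i j, i ≠ j ∧ v = ev i - ev j}) (fun i j hij t => ?_)
    (fun a b ha hb => by rw [map_mul]; exact mul_mem ha hb) g
  rw [hψ]
  refine RGD.le_Sup (X := XX D l (KK r)) (S := {v | ∃ i j, i ≠ j ∧ v = ev i - ev j}) ⟨i, j, hij, rfl⟩ ?_
  exact (Cfsg.Agent.H508.Dens.mem_XX_iff hp M.toCoxeterSystem (fm_root (hp := hp) hev hij)).2 ⟨_, rfl⟩

/-- **Frames of type `A_{p-1}` shifted by `E`, general form.** -/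
theorem core_afr {n e : ℕ} [hn1 : Fact (n + 1).Prime] {τ : MulAut ↥(D.group (KK r))}
    {γ : (Fin l → ℤ) ≃+ (Fin l → ℤ)} {E H : Subgroup ↥(D.group (KK r))}
    (S : Sit hp r (n + 1) e τ γ E H) (h2 : n + 1 ≠ 2) (hr : r ≠ 2) (hpr : n + 1 ≠ r)
    {ev : Fin (n + 1) → Fin l → ℤ} (hev : AFr D l ev) {π : Equiv.Perm (Fin (n + 1))}
    (hγ : (∀ i j, i ≠ j → γ (ev i - ev j) = ev (π i) - ev (π j)) ∨
      (∀ i j, i ≠ j → γ (ev i - ev j) = ev (π j) - ev (π i)))
    {w : M.Group} (hw : w ∈ VE hp r E)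
    (hws : ∀ i j, i ≠ j → rep M.toCoxeterSystem hp.isCartan w (ev i - ev j) = ev (i + 1) - ev (j + 1))
    (hV : ∀ v ∈ VE hp r E, ∃ m : Fin (n + 1), ∀ i j, i ≠ j →
      rep M.toCoxeterSystem hp.isCartan v (ev i - ev j) = ev (i + m) - ev (j + m))
    {N : Subgroup ↥(D.group (KK r))}
    (hN : ∀ F ≤ E, F.relIndex E = n + 1 → ∀ u ∈ RGD.Sup (XX D l (KK r)) {v | ∃ i j, i ≠ j ∧ v = ev i - ev j},
      τ u = u → (∀ x ∈ F, x * u = u * x) →
      u ∈ Subgroup.closure {v | v ∈ RGD.Sup (XX D l (KK r)) {v | ∃ i j, i ≠ j ∧ v = ev i - ev j} ∧ τ v = v ∧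
        ∃ j : ℕ, v ^ r ^ j = 1} → u ∈ N)
    {u : ↥(D.group (KK r))} (hu : u ∈ RGD.Sup (XX D l (KK r)) {v | ∃ i j, i ≠ j ∧ v = ev i - ev j}) (hτu : τ u = u)
    (hur : ∃ j : ℕ, u ^ r ^ j = 1) : u ∈ N := by
  have hn2 : 2 ≤ n := by have := hn1.1.two_le; omega
  obtain ⟨ψ, hψ, -⟩ := exists_hom_afr (k := KK r) hp hev hn2 (locFin r)
  obtain ⟨Dm, uni, hσ⟩ := fm_sigma hev hψ S.frob S.fr hn2 hγ
  obtain ⟨f, hf, hfw⟩ := hw
  have hinj := fm_inj hev hψ
  obtain ⟨g, rfl⟩ := fm_Sup hev hψ hu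
  obtain ⟨j, hj⟩ := hur
  have hn3 : 3 ≤ n + 1 := by omega
  obtain ⟨x, hx, hxg⟩ := exists_fixed (σ := τ.toMonoidHom) hn3 hpr (exists_ne_one hn3 hinj) hσ hτu hj
  rw [← hxg]
  have hrange := fm_range hev hψ (by omega)
  exact cyc_sl (σ := τ.toMonoidHom) h2 (linFacts hn1.1 h2) (uniFacts hn1.1 h2) (Or.inr hr) S.he
    (fun a ha => S.el.2 a ha) (fun a ha b hb => comm_E S ha hb) hinj (fun x hx => S.fix x hx) hσ hf
    (fm_act hev hψ hfw hws) (fun x hx => by
      obtain ⟨v, hv⟩ := S.nrm x hx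
      obtain ⟨m, hm⟩ := hV v ⟨x, hx, hv⟩
      exact ⟨m, fm_act hev hψ hv hm⟩) (M := N.comap ψ)
    (fun F hFE hFi x hx hxF => hN F hFE hFi (ψ x) (hrange ⟨x, rfl⟩) ((hσ x).trans (by rw [hx]))
      (fun y hy => (hxF y hy).symm)
      (mem_closure_rr (σ := τ.toMonoidHom) hn3 (not_three_two (Or.inr hr) S.he) S.he hrange hσ hx)) hx

section Three

variable {e : ℕ} {τ : MulAut ↥(D.group (KK r))} {γ : (Fin l → ℤ) ≃+ (Fin l → ℤ)} {E H : Subgroup ↥(D.group (KK r))}

/-- the frame of a root with an orbit of type `A₂` -/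
theorem frame3 (S : Sit hp r 3 e τ γ E H) (hG : D ≠ chevG2) {a : Fin l → ℤ}
    (ha : IsRoot M.toCoxeterSystem hp.isCartan a) {ε : ℤ} (hε : ε = 1 ∨ ε = -1) (hγ : γ a = ε • a)
    {f : M.Group} (hf : f ∈ VE hp r E)
    (h3 : a + rep M.toCoxeterSystem hp.isCartan f a + rep M.toCoxeterSystem hp.isCartan (f ^ 2) a = 0) :
    AFr D l (ev3 a (rep M.toCoxeterSystem hp.isCartan f a)) ∧
    ((∀ i j, i ≠ j → γ (ev3 a (rep M.toCoxeterSystem hp.isCartan f a) i -
        ev3 a (rep M.toCoxeterSystem hp.isCartan f a) j) = ev3 a (rep M.toCoxeterSystem hp.isCartan f a)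
          ((Equiv.refl (Fin 3)) i) - ev3 a (rep M.toCoxeterSystem hp.isCartan f a) ((Equiv.refl (Fin 3)) j)) ∨
      (∀ i j, i ≠ j → γ (ev3 a (rep M.toCoxeterSystem hp.isCartan f a) i -
        ev3 a (rep M.toCoxeterSystem hp.isCartan f a) j) = ev3 a (rep M.toCoxeterSystem hp.isCartan f a)
          ((Equiv.refl (Fin 3)) j) - ev3 a (rep M.toCoxeterSystem hp.isCartan f a) ((Equiv.refl (Fin 3)) i))) ∧
    (∀ i j, i ≠ j → rep M.toCoxeterSystem hp.isCartan f (ev3 a (rep M.toCoxeterSystem hp.isCartan f a) i -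
        ev3 a (rep M.toCoxeterSystem hp.isCartan f a) j) = ev3 a (rep M.toCoxeterSystem hp.isCartan f a) (i + 1) -
          ev3 a (rep M.toCoxeterSystem hp.isCartan f a) (j + 1)) ∧
    {x | ∃ i j, i ≠ j ∧ x = ev3 a (rep M.toCoxeterSystem hp.isCartan f a) i -
        ev3 a (rep M.toCoxeterSystem hp.isCartan f a) j} = {a, -a, rep M.toCoxeterSystem hp.isCartan f a,
      -rep M.toCoxeterSystem hp.isCartan f a, rep M.toCoxeterSystem hp.isCartan (f ^ 2) a,
      -rep M.toCoxeterSystem hp.isCartan (f ^ 2) a} := by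
  have := finite_W hp M.toCoxeterSystem
  set cs := M.toCoxeterSystem with hcs
  have hf3 : f ^ 3 = 1 := VE_pow S hf
  have hsh := fun (v : M.Group) (hv : v ∈ VE hp r E) (j : ℕ) hj =>
    shift3 (hp := hp) (fun v hv w hw => VE_comm S hv hw) hf h3 hf3 (v := v) hv (j := j) hj
  set b := rep cs hp.isCartan f a with hb
  set c := rep cs hp.isCartan (f ^ 2) a with hc
  have hfb : rep cs hp.isCartan f b = c := by rw [hb, hc, pow_two, map_mul, Module.End.mul_apply]
  have e01 := ev3_01 a b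
  have e12 := ev3_12 a b
  have e20 := ev3_20 a b c h3
  have e10 : ev3 a b 1 - ev3 a b 0 = -a := by rw [← neg_sub, e01]
  have e21 : ev3 a b 2 - ev3 a b 1 = -b := by rw [← neg_sub, e12]
  have e02 : ev3 a b 0 - ev3 a b 2 = -c := by rw [← neg_sub, e20]
  have hcases : ∀ i j : Fin 3, i ≠ j → (i = 0 ∧ j = 1) ∨ (i = 1 ∧ j = 2) ∨ (i = 2 ∧ j = 0) ∨ (i = 1 ∧ j = 0) ∨
    (i = 2 ∧ j = 1) ∨ (i = 0 ∧ j = 2) := by decide
  have hev : AFr D l (ev3 a b) := afr_of_three hp cs hG ha (w := f)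
    (by rw [← hb, hfb, h3]) e01 (by rw [e12, hb])
  have hγb : γ b = ε • b := by rw [hb, VE_gam S hf ha, hγ, map_zsmul]
  have hγc : γ c = ε • c := by rw [hc, VE_gam S (pow_mem hf 2) ha, hγ, map_zsmul]
  have h1 : ∀ i j, i ≠ j → γ (ev3 a b i - ev3 a b j) = ε • (ev3 a b i - ev3 a b j) := by
    intro i j hij
    rcases hcases i j hij with ⟨rfl, rfl⟩ | ⟨rfl, rfl⟩ | ⟨rfl, rfl⟩ | ⟨rfl, rfl⟩ | ⟨rfl, rfl⟩ | ⟨rfl, rfl⟩
    · rw [e01, hγ]
    · rw [e12, hγb]
    · rw [e20, hγc]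
    · rw [e10, map_neg, hγ, smul_neg]
    · rw [e21, map_neg, hγb, smul_neg]
    · rw [e02, map_neg, hγc, smul_neg]
  refine ⟨hev, ?_, ?_, ?_⟩
  · rcases hε with rfl | rfl
    · left
      intro i j hij
      rw [h1 i j hij, one_smul]
      rfl
    · right
      intro i j hij
      rw [h1 i j hij, neg_one_smul, neg_sub]
      rfl
  · intro i j hij
    obtain ⟨m, hm⟩ := hsh f hf 1 (by rw [pow_one])
    have h4 := hm 0 1 (by decide)
    rw [e01, ← hb] at h4
    have hm1 : m = 1 := by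
      have hb0 : b ≠ 0 := (ha.act f).ne_zero
      have ha0 : a ≠ 0 := ha.ne_zero
      have hm3 : m = 0 ∨ m = 1 ∨ m = 2 := (by decide : ∀ m : Fin 3, m = 0 ∨ m = 1 ∨ m = 2) m
      rcases hm3 with rfl | rfl | rfl
      · exfalso
        have h5 : b = a := h4.trans e01
        have h6 : c = a := by rw [← hfb, h5, ← hb, h5]
        rw [h5, h6] at h3
        apply ha0
        have h7 : (3 : ℤ) • a = 0 := by rw [← h3]; module
        rcases smul_eq_zero.1 h7 with h8 | h8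
        · norm_num at h8
        · exact h8
      · rfl
      · exfalso
        have h5 : b = c := h4.trans e20
        have h6 : rep cs hp.isCartan f a = rep cs hp.isCartan f b := by rw [hfb, ← hb, h5]
        have h8 : a = b := by
          have h9 := congrArg (rep cs hp.isCartan f⁻¹) h6
          rwa [← Module.End.mul_apply, ← Module.End.mul_apply, ← map_mul, inv_mul_cancel, map_one,
            Module.End.one_apply, Module.End.one_apply] at h9
        rw [← h8] at h5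
        rw [← h8, ← h5] at h3
        apply ha0
        have h7 : (3 : ℤ) • a = 0 := by rw [← h3]; module
        rcases smul_eq_zero.1 h7 with h8 | h8
        · norm_num at h8
        · exact h8
    subst hm1
    exact hm i j hij
  · ext x
    constructor
    · rintro ⟨i, j, hij, rfl⟩
      rcases hcases i j hij with ⟨rfl, rfl⟩ | ⟨rfl, rfl⟩ | ⟨rfl, rfl⟩ | ⟨rfl, rfl⟩ | ⟨rfl, rfl⟩ | ⟨rfl, rfl⟩
      · rw [e01]; simp
      · rw [e12]; simp
      · rw [e20]; simp
      · rw [e10]; simp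
      · rw [e21]; simp
      · rw [e02]; simp
    · rintro (rfl | rfl | rfl | rfl | rfl | rfl)
      · exact ⟨0, 1, by decide, e01.symm⟩
      · exact ⟨1, 0, by decide, e10.symm⟩
      · exact ⟨1, 2, by decide, e12.symm⟩
      · exact ⟨2, 1, by decide, e21.symm⟩
      · exact ⟨2, 0, by decide, e20.symm⟩
      · exact ⟨0, 2, by decide, e02.symm⟩

/-- **`p = 3`, any root, general form.** -/
theorem core (S : Sit hp r 3 e τ γ E H) (hG : D ≠ chevG2) (hr : r ≠ 2) (hpr : 3 ≠ r) {a : Fin l → ℤ}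
    (ha : IsRoot M.toCoxeterSystem hp.isCartan a) {ε : ℤ} (hε : ε = 1 ∨ ε = -1) (hγ : γ a = ε • a)
    {f : M.Group} (hf : f ∈ VE hp r E)
    (h3 : a + rep M.toCoxeterSystem hp.isCartan f a + rep M.toCoxeterSystem hp.isCartan (f ^ 2) a = 0)
    (horb : ∀ v ∈ VE hp r E, ∃ j : ℕ,
      rep M.toCoxeterSystem hp.isCartan v a = rep M.toCoxeterSystem hp.isCartan (f ^ j) a)
    {R : Set (Fin l → ℤ)} (hR : R = {a, -a, rep M.toCoxeterSystem hp.isCartan f a,
      -rep M.toCoxeterSystem hp.isCartan f a, rep M.toCoxeterSystem hp.isCartan (f ^ 2) a,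
      -rep M.toCoxeterSystem hp.isCartan (f ^ 2) a})
    {N : Subgroup ↥(D.group (KK r))}
    (hN : ∀ F ≤ E, F.relIndex E = 3 → ∀ u ∈ RGD.Sup (XX D l (KK r)) R, τ u = u → (∀ x ∈ F, x * u = u * x) →
      u ∈ Subgroup.closure {v | v ∈ RGD.Sup (XX D l (KK r)) R ∧ τ v = v ∧ ∃ j : ℕ, v ^ r ^ j = 1} → u ∈ N)
    {u : ↥(D.group (KK r))} (hu : u ∈ RGD.Sup (XX D l (KK r)) R) (hτu : τ u = u)
    (hur : ∃ j : ℕ, u ^ r ^ j = 1) : u ∈ N := by
  have := finite_W hp M.toCoxeterSystem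
  have hF3 : Fact (2 + 1).Prime := ⟨Nat.prime_three⟩
  obtain ⟨hev, h1, h4, h5⟩ := frame3 S hG ha hε hγ hf h3
  have hRR := hR.trans h5.symm
  subst hRR
  exact core_afr (n := 2) S (by norm_num) hr hpr hev h1 hf h4 (fun v hv => by
    obtain ⟨j, hj⟩ := horb v hv
    exact shift3 (hp := hp) (fun v hv w hw => VE_comm S hv hw) hf h3 (VE_pow S hf) hv hj) hN hu hτu hur

end Three

/-- **M5A** (the form of `H496.Mono.Stmt`) -/
theorem p5_orbA (h : HiList D) (hG : D ≠ chevG2) : P5 hp r 3 (OrbA hp) := by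
  intro e τ γ E H S hE hr hpr hq ε hε a ha hO
  obtain ⟨f, -, h1⟩ := inS_A S hG hr hpr (LL_root h hp M.toCoxeterSystem ha.1) hε.1 ha.2 hO
  refine InS.mono h1 ?_
  rintro x (rfl | rfl)
  · exact Or.inl rfl
  · exact Or.inr (Or.inl rfl)

end Cfsg.Agent.H321.Mono
end
end
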